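import Cfsg.Agent.Lib.Schur.HS.Data
import Cfsg.Agent.Lib.Schur.TailsPerm
import Cfsg.Agent.Lib.Sporadic.OutCert.HS.Defs

/-!
Kernel checks of the data for the 2-part of the multiplier of the Higman-Sims group.
-/

set_option autoImplicit false
set_option maxRecDepth 100000
set_option maxHeartbeats 0

namespace CfsgLib.Schur.Sporadic.HS

open CfsgLib.Sporadic.OutCert

theorem cert_eqs : cert2.eqsOK = true := by decide +kernel

theorem cert_comb : cert2.combOK = true := by decide +kernel

theorem cert_shape : cert2.shapeOK = true := by decide +kernel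

theorem kw_ok : kw2.map HS.wk = kk2 ∧ gw2.map HS.wk = gk2 := by decide +kernel

theorem rels_ok : Tails.relK 7 100 kk2 cert2 = true ∧ Tails.fusK 7 100 kk2 gk2 cert2 = true := by
  decide +kernel

theorem all_ok : Tails.wordsOK 7 100 kk2 pts2 words2 0 cert2.r = true ∧ words2.length = 512 := by
  decide +kernel

theorem inner_ok : Tails.wordsOK 7 100 kk2 pts2in words2in cert2.a cert2.r = true ∧ words2in.length = 64 := by
  decide +kernel

end CfsgLib.Schur.Sporadic.HS
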