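import Cfsg.Agent.Lib.Schur.HS.Data3
import Cfsg.Agent.Lib.Schur.TailsPerm
import Cfsg.Agent.Lib.Sporadic.OutCert.HS.Defs

/-!
Kernel checks of the data for the 3-part of the multiplier of the Higman-Sims group.
-/

set_option autoImplicit false
set_option maxRecDepth 100000
set_option maxHeartbeats 0

namespace CfsgLib.Schur.Sporadic.HS

open CfsgLib.Sporadic.OutCert

theorem cert3_eqs : cert3.eqsOK = true := by decide +kernel

theorem cert3_comb : cert3.combOK = true := by decide +kernel

theorem cert3_shape : cert3.shapeOK = true := by decide +kernel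

theorem kw3_ok : kw3.map HS.wk = kk3 ∧ gw3.map HS.wk = gk3 := by decide +kernel

theorem rels3_ok : Tails.relK 7 100 kk3 cert3 = true ∧ Tails.fusK 7 100 kk3 gk3 cert3 = true := by
  decide +kernel

theorem all3_ok : Tails.wordsOK 7 100 kk3 pts3 words3 0 cert3.r = true ∧ words3.length = 9 := by
  decide +kernel

theorem inner3_ok : Tails.wordsOK 7 100 kk3 pts3in words3in cert3.a cert3.r = true ∧ words3in.length = 1 := by
  decide +kernel

end CfsgLib.Schur.Sporadic.HS
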