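import Cfsg.Agent.Lib.Schur.HS.Data5
import Cfsg.Agent.Lib.Schur.TailsPerm
import Cfsg.Agent.Lib.Sporadic.OutCert.HS.Defs

/-!
Kernel checks of the data for the 5-part of the multiplier of the Higman-Sims group.
-/

set_option autoImplicit false
set_option maxRecDepth 100000
set_option maxHeartbeats 0

namespace CfsgLib.Schur.Sporadic.HS

open CfsgLib.Sporadic.OutCert

theorem cert5_eqs : cert5.eqsOK = true := by decide +kernel

theorem cert5_comb : cert5.combOK = true := by decide +kernel

theorem cert5_shape : cert5.shapeOK = true := by decide +kernel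

theorem kw5_ok : kw5.map HS.wk = kk5 ∧ gw5.map HS.wk = gk5 := by decide +kernel

theorem rels5_ok : Tails.relK 7 100 kk5 cert5 = true ∧ Tails.fusK 7 100 kk5 gk5 cert5 = true := by
  decide +kernel

theorem all5_ok : Tails.wordsOK 7 100 kk5 pts5 words5 0 cert5.r = true ∧ words5.length = 125 := by
  decide +kernel

theorem inner5_ok : Tails.wordsOK 7 100 kk5 pts5in words5in cert5.a cert5.r = true ∧ words5in.length = 5 := by
  decide +kernel

end CfsgLib.Schur.Sporadic.HS
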