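import Cfsg.Agent.Lib.Schur.TailsCert

/-!
Data for the 2-part of the multiplier of the Higman-Sims group.
-/

set_option autoImplicit false
set_option maxRecDepth 100000
set_option maxHeartbeats 0

namespace CfsgLib.Schur.Sporadic.HS

/-- An equation. -/
def eqs2_0 : CfsgLib.Schur.Tails.Form := [(-1, 0), (1, 0), (1, 30), (1, 15)]

/-- An equation. -/
def eqs2_1 : CfsgLib.Schur.Tails.Form := [(-1, 1), (1, 1), (1, 13)]

/-- An equation. -/
def eqs2_2 : CfsgLib.Schur.Tails.Form := [(-1, 9), (1, 1), (1, 12), (-1, 9), (-1, 20), (-1, 1), (-1, 35), (-1, 29), (-1, 5), (-1, 36), (-1, 7)]

/-- An equation. -/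
def eqs2_3 : CfsgLib.Schur.Tails.Form := [(-1, 10), (1, 2), (-1, 10), (-1, 21), (-1, 17), (-1, 2), (-1, 35), (-1, 34), (-1, 23), (-1, 4), (-1, 35), (-1, 5), (-1, 7)]

/-- An equation. -/
def eqs2_4 : CfsgLib.Schur.Tails.Form := [(-1, 11), (1, 2), (-1, 11), (-1, 14), (-1, 2), (-1, 3)]

/-- An equation. -/
def eqs2_5 : CfsgLib.Schur.Tails.Form := [(-1, 12), (1, 3), (-1, 12), (-1, 27), (-1, 3), (-1, 43), (-1, 6), (-1, 8)]

/-- An equation. -/
def eqs2_6 : CfsgLib.Schur.Tails.Form := [(-1, 14), (1, 3), (-1, 14), (-1, 3)]

/-- An equation. -/
def eqs2_7 : CfsgLib.Schur.Tails.Form := [(-1, 15), (1, 4), (-1, 15), (-1, 4)]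

/-- An equation. -/
def eqs2_8 : CfsgLib.Schur.Tails.Form := [(-1, 16), (1, 4), (-1, 16), (-1, 41), (-1, 34), (-1, 4), (-1, 44), (-1, 7), (-1, 8)]

/-- An equation. -/
def eqs2_9 : CfsgLib.Schur.Tails.Form := [(-1, 17), (1, 4), (-1, 17), (-1, 34), (-1, 4), (-1, 7)]

/-- An equation. -/
def eqs2_10 : CfsgLib.Schur.Tails.Form := [(-1, 18), (1, 4), (-1, 18), (-1, 41), (-1, 4), (-1, 8)]

/-- An equation. -/
def eqs2_11 : CfsgLib.Schur.Tails.Form := [(-1, 5), (1, 5), (1, 35)]

/-- An equation. -/
def eqs2_12 : CfsgLib.Schur.Tails.Form := [(-1, 19), (1, 5), (1, 30), (-1, 19), (-1, 5)]

/-- An equation. -/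
def eqs2_13 : CfsgLib.Schur.Tails.Form := [(-1, 20), (1, 5), (1, 31), (-1, 20), (-1, 35), (-1, 29), (-1, 5), (-1, 36), (-1, 7), (-1, 6), (-1, 44)]

/-- An equation. -/
def eqs2_14 : CfsgLib.Schur.Tails.Form := [(-1, 21), (1, 5), (1, 32), (-1, 21), (-1, 5)]

/-- An equation. -/
def eqs2_15 : CfsgLib.Schur.Tails.Form := [(-1, 22), (1, 5), (1, 33), (-1, 22), (-1, 35), (-1, 5), (-1, 7)]

/-- An equation. -/
def eqs2_16 : CfsgLib.Schur.Tails.Form := [(-1, 23), (1, 5), (1, 34), (-1, 23), (-1, 5)]

/-- An equation. -/
def eqs2_17 : CfsgLib.Schur.Tails.Form := [(-1, 6), (1, 6), (1, 43)]

/-- An equation. -/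
def eqs2_18 : CfsgLib.Schur.Tails.Form := [(-1, 24), (1, 6), (1, 37), (-1, 24), (-1, 6)]

/-- An equation. -/
def eqs2_19 : CfsgLib.Schur.Tails.Form := [(-1, 25), (1, 6), (1, 38), (-1, 25), (-1, 36), (-1, 6), (-1, 44), (-1, 44), (-1, 7)]

/-- An equation. -/
def eqs2_20 : CfsgLib.Schur.Tails.Form := [(-1, 26), (1, 6), (1, 39), (-1, 26), (-1, 43), (-1, 36), (-1, 6), (-1, 44), (-1, 8), (-1, 7)]

/-- An equation. -/
def eqs2_21 : CfsgLib.Schur.Tails.Form := [(-1, 27), (1, 6), (1, 40), (-1, 27), (-1, 43), (-1, 6), (-1, 8)]

/-- An equation. -/
def eqs2_22 : CfsgLib.Schur.Tails.Form := [(-1, 28), (1, 6), (1, 41), (-1, 28), (-1, 6)]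

/-- An equation. -/
def eqs2_23 : CfsgLib.Schur.Tails.Form := [(-1, 29), (1, 6), (1, 42), (-1, 29), (-1, 6)]

/-- An equation. -/
def eqs2_24 : CfsgLib.Schur.Tails.Form := [(-1, 31), (1, 7), (-1, 31), (-1, 44), (-1, 7), (-1, 8)]

/-- An equation. -/
def eqs2_25 : CfsgLib.Schur.Tails.Form := [(-1, 32), (1, 7), (-1, 32), (-1, 7)]

/-- An equation. -/
def eqs2_26 : CfsgLib.Schur.Tails.Form := [(-1, 33), (1, 7), (-1, 33), (-1, 7)]

/-- An equation. -/
def eqs2_27 : CfsgLib.Schur.Tails.Form := [(-1, 34), (1, 7), (-1, 34), (-1, 7)]

/-- An equation. -/
def eqs2_28 : CfsgLib.Schur.Tails.Form := [(-1, 36), (1, 7), (-1, 36), (-1, 7)]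

/-- An equation. -/
def eqs2_29 : CfsgLib.Schur.Tails.Form := [(-1, 37), (1, 8), (-1, 37), (-1, 8)]

/-- An equation. -/
def eqs2_30 : CfsgLib.Schur.Tails.Form := [(-1, 38), (1, 8), (-1, 38), (-1, 8)]

/-- An equation. -/
def eqs2_31 : CfsgLib.Schur.Tails.Form := [(-1, 39), (1, 8), (-1, 39), (-1, 8)]

/-- An equation. -/
def eqs2_32 : CfsgLib.Schur.Tails.Form := [(-1, 40), (1, 8), (-1, 40), (-1, 8)]

/-- An equation. -/
def eqs2_33 : CfsgLib.Schur.Tails.Form := [(-1, 41), (1, 8), (-1, 41), (-1, 8)]

/-- An equation. -/
def eqs2_34 : CfsgLib.Schur.Tails.Form := [(-1, 42), (1, 8), (-1, 42), (-1, 8)]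

/-- An equation. -/
def eqs2_35 : CfsgLib.Schur.Tails.Form := [(-1, 44), (1, 8), (-1, 44), (-1, 8)]

/-- An equation. -/
def eqs2_36 : CfsgLib.Schur.Tails.Form := [(-1, 0), (1, 9), (1, 19), (1, 9), (1, 0), (1, 31), (1, 16), (1, 44), (1, 7), (1, 8), (1, 5)]

/-- An equation. -/
def eqs2_37 : CfsgLib.Schur.Tails.Form := [(-1, 0), (1, 10), (1, 19), (1, 15), (1, 10), (1, 0), (1, 32), (1, 17), (1, 7), (1, 4), (1, 23), (1, 5)]

/-- An equation. -/
def eqs2_38 : CfsgLib.Schur.Tails.Form := [(-1, 9), (1, 11), (1, 12), (1, 10), (1, 9), (1, 21), (1, 23), (1, 5), (1, 33), (1, 18), (1, 44), (1, 43), (1, 36), (-1, 10), (-1, 20), (-1, 16), (-1, 11), (-1, 42), (-1, 35), (-1, 43), (-1, 36), (-1, 44), (-1, 7), (-1, 42), (-1, 29), (-1, 5), (-1, 36)]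

/-- An equation. -/
def eqs2_39 : CfsgLib.Schur.Tails.Form := [(-1, 0), (1, 12), (1, 24), (1, 12), (1, 0), (1, 33), (1, 18), (1, 44), (1, 43), (1, 36), (1, 43), (1, 36), (1, 6), (1, 44), (1, 8)]

/-- An equation. -/
def eqs2_40 : CfsgLib.Schur.Tails.Form := [(-1, 9), (1, 13), (1, 12), (1, 9), (1, 22), (1, 36), (-1, 12), (-1, 25), (-1, 13), (-1, 35), (-1, 29)]

/-- An equation. -/
def eqs2_41 : CfsgLib.Schur.Tails.Form := [(-1, 10), (1, 14), (1, 12), (1, 10), (1, 22), (1, 18), (1, 42), (1, 44), (1, 43), (1, 36), (-1, 12), (-1, 26), (-1, 14), (-1, 41), (-1, 34), (-1, 28), (-1, 42), (-1, 35), (-1, 29)]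

/-- An equation. -/
def eqs2_42 : CfsgLib.Schur.Tails.Form := [(-1, 0), (1, 15), (1, 15), (1, 0), (1, 34), (1, 4), (-1, 4)]

/-- An equation. -/
def eqs2_43 : CfsgLib.Schur.Tails.Form := [(-1, 1), (1, 16), (1, 38), (1, 31), (1, 16), (1, 1), (1, 44), (1, 7), (1, 8), (-1, 18)]

/-- An equation. -/
def eqs2_44 : CfsgLib.Schur.Tails.Form := [(-1, 9), (1, 16), (1, 37), (1, 30), (1, 15), (1, 9), (1, 23), (-1, 15), (-1, 16), (-1, 42), (-1, 35)]

/-- An equation. -/
def eqs2_45 : CfsgLib.Schur.Tails.Form := [(-1, 2), (1, 17), (1, 32), (1, 17), (1, 2), (1, 7)]

/-- An equation. -/
def eqs2_46 : CfsgLib.Schur.Tails.Form := [(-1, 11), (1, 17), (1, 31), (1, 16), (1, 11), (1, 44), (1, 7), (1, 8), (-1, 16), (-1, 39), (-1, 32), (-1, 17), (-1, 7), (-1, 40), (-1, 18), (-1, 8)]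

/-- An equation. -/
def eqs2_47 : CfsgLib.Schur.Tails.Form := [(-1, 12), (1, 18), (1, 37), (1, 15), (1, 12), (1, 28), (-1, 15), (-1, 18), (-1, 43)]

/-- An equation. -/
def eqs2_48 : CfsgLib.Schur.Tails.Form := [(-1, 12), (1, 22), (1, 30), (1, 19), (1, 12), (1, 29), (-1, 19), (-1, 22), (-1, 36)]

/-- An equation. -/
def eqs2_49 : CfsgLib.Schur.Tails.Form := [(-1, 13), (1, 22), (1, 31), (1, 20), (1, 13), (1, 7), (-1, 20), (-1, 33), (-1, 27), (-1, 22), (-1, 36), (-1, 44), (-1, 7)]

/-- An equation. -/
def eqs2_50 : CfsgLib.Schur.Tails.Form := [(1, 30), (1, 19), (1, 0), (1, 35), (1, 7), (1, 5), (1, 7), (-1, 34), (-1, 7), (1, 45), (1, 45), (-1, 49), (-1, 50), (-1, 5), (1, 4)]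

/-- An equation. -/
def eqs2_51 : CfsgLib.Schur.Tails.Form := [(1, 0), (1, 46), (1, 46), (-1, 50), (-1, 0)]

/-- An equation. -/
def eqs2_52 : CfsgLib.Schur.Tails.Form := [(1, 40), (1, 27), (1, 3), (1, 8), (1, 6), (1, 8), (1, 47), (1, 47), (-1, 13), (-1, 11), (-1, 1), (-1, 14), (-1, 3), (-1, 14), (-1, 2), (-1, 3)]

/-- An equation. -/
def eqs2_53 : CfsgLib.Schur.Tails.Form := [(1, 38), (1, 31), (1, 16), (1, 11), (1, 1), (1, 14), (1, 3), (1, 44), (1, 7), (1, 8), (1, 39), (1, 17), (1, 2), (1, 41), (1, 34), (1, 4), (1, 44), (1, 7), (1, 8), (1, 48), (1, 48), (-1, 11), (-1, 1), (-1, 14), (-1, 3), (-1, 2)]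

/-- An equation. -/
def eqs2_54 : CfsgLib.Schur.Tails.Form := [(1, 7), (1, 49), (1, 49), (-1, 4)]

/-- An equation. -/
def eqs2_55 : CfsgLib.Schur.Tails.Form := [(1, 34), (1, 4), (1, 7), (1, 50), (1, 50), (-1, 34), (-1, 4), (-1, 7)]

/-- An equation. -/
def eqs2_56 : CfsgLib.Schur.Tails.Form := [(1, 41), (1, 34), (1, 28), (1, 4), (1, 43), (1, 36), (1, 6), (1, 44), (1, 8), (1, 7), (1, 51), (1, 51), (-1, 52), (-1, 6)]

/-- An equation. -/
def eqs2_57 : CfsgLib.Schur.Tails.Form := [(1, 8), (1, 52), (1, 52), (-1, 8)]

/-- An equation. -/
def eqs2_58 : CfsgLib.Schur.Tails.Form := [(1, 37), (1, 24), (1, 12), (1, 6), (1, 8), (-1, 33), (-1, 22), (-1, 7), (-1, 44), (-1, 41), (-1, 34), (-1, 28), (-1, 23), (-1, 44), (-1, 7), (-1, 41), (-1, 28), (-1, 23), (-1, 4), (-1, 43), (-1, 6), (-1, 8), (-1, 8), (1, 47), (1, 45), (-1, 45), (-1, 47), (-1, 49), (-1, 50), (-1, 51), (-1, 52), (1, 20), (1, 32), (1, 26), (1, 21), (1, 44), (1, 7), (1, 40), (1, 27), (1, 22), (1, 36), (1, 8), (1, 34), (1, 28), (1, 23), (1, 34), (1, 28), (1, 23), (1, 4), (1, 7), (1, 6), (1, 8)]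

/-- An equation. -/
def eqs2_59 : CfsgLib.Schur.Tails.Form := [(1, 37), (1, 24), (1, 12), (1, 6), (1, 8), (-1, 41), (-1, 28), (-1, 44), (-1, 41), (-1, 34), (-1, 28), (-1, 4), (-1, 43), (-1, 36), (-1, 6), (-1, 44), (-1, 8), (-1, 7), (-1, 8), (1, 47), (1, 46), (-1, 46), (-1, 47), (-1, 50), (-1, 51), (-1, 52), (-1, 12), (-1, 10), (-1, 9), (-1, 21), (-1, 23), (-1, 5), (-1, 33), (-1, 18), (-1, 44), (-1, 43), (-1, 36), (1, 36)]

/-- An equation. -/
def eqs2_60 : CfsgLib.Schur.Tails.Form := [(1, 37), (1, 30), (1, 15), (1, 10), (1, 9), (1, 21), (1, 23), (1, 5), (1, 34), (1, 4), (1, 7), (1, 42), (1, 44), (-1, 31), (-1, 20), (-1, 7), (-1, 39), (-1, 26), (-1, 21), (-1, 8), (-1, 34), (-1, 28), (-1, 23), (-1, 7), (-1, 41), (-1, 28), (-1, 23), (-1, 4), (-1, 43), (-1, 6), (-1, 8), (1, 48), (1, 45), (-1, 45), (-1, 48), (-1, 51), (1, 20), (1, 32), (1, 26), (1, 21), (1, 44), (1, 7), (1, 43), (1, 6), (1, 8)]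

/-- An equation. -/
def eqs2_61 : CfsgLib.Schur.Tails.Form := [(1, 30), (1, 24), (1, 19), (1, 15), (1, 0), (1, 34), (1, 4), (1, 35), (1, 36), (1, 7), (1, 28), (1, 23), (1, 29), (1, 5), (1, 36), (1, 36), (1, 6), (1, 44), (1, 44), (1, 7), (1, 53), (1, 53), (-1, 54), (-1, 0)]

/-- An equation. -/
def eqs2_62 : CfsgLib.Schur.Tails.Form := [(1, 41), (1, 4), (1, 8), (1, 54), (1, 54), (-1, 34), (-1, 4), (-1, 7)]

/-- An equation. -/
def eqs2_63 : CfsgLib.Schur.Tails.Form := [(1, 39), (1, 32), (1, 2), (1, 44), (1, 7), (1, 8), (1, 55), (1, 55), (-1, 14), (-1, 2), (-1, 3)]

/-- An equation. -/
def eqs2_64 : CfsgLib.Schur.Tails.Form := [(1, 40), (1, 33), (1, 3), (1, 44), (1, 7), (1, 8), (1, 56), (1, 56), (-1, 2)]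

/-- An equation. -/
def eqs2_65 : CfsgLib.Schur.Tails.Form := [(1, 43), (1, 36), (1, 6), (1, 44), (1, 8), (1, 7), (1, 57), (1, 57), (-1, 59), (-1, 34), (-1, 23), (-1, 4), (-1, 35), (-1, 5), (-1, 7)]

/-- An equation. -/
def eqs2_66 : CfsgLib.Schur.Tails.Form := [(1, 28), (1, 23), (1, 4), (1, 29), (1, 5), (1, 36), (1, 36), (1, 6), (1, 44), (-1, 44), (1, 58), (1, 58), (-1, 59), (-1, 60), (-1, 6), (1, 7)]

/-- An equation. -/
def eqs2_67 : CfsgLib.Schur.Tails.Form := [(1, 8), (1, 59), (1, 59), (-1, 7)]

/-- An equation. -/
def eqs2_68 : CfsgLib.Schur.Tails.Form := [(1, 7), (1, 60), (1, 60), (-1, 44), (-1, 7), (-1, 8)]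

/-- An equation. -/
def eqs2_69 : CfsgLib.Schur.Tails.Form := [(1, 37), (1, 30), (1, 10), (1, 41), (1, 34), (1, 23), (1, 4), (1, 42), (1, 35), (1, 5), (1, 7), (1, 43), (1, 44), (-1, 32), (-1, 26), (-1, 21), (-1, 17), (-1, 35), (-1, 36), (-1, 7), (-1, 44), (-1, 44), (-1, 7), (-1, 8), (-1, 6), (-1, 44), (-1, 8), (-1, 34), (-1, 23), (-1, 4), (-1, 35), (-1, 5), (-1, 7), (-1, 44), (1, 55), (1, 53), (-1, 53), (-1, 55), (-1, 57), (-1, 58), (-1, 59), (-1, 60), (-1, 12), (-1, 10), (-1, 22), (-1, 18), (-1, 42), (-1, 44), (-1, 43), (-1, 36), (1, 36), (1, 7)]

/-- An equation. -/
def eqs2_70 : CfsgLib.Schur.Tails.Form := [(1, 37), (1, 30), (1, 12), (1, 41), (1, 34), (1, 28), (1, 42), (1, 35), (1, 29), (1, 43), (1, 36), (1, 6), (1, 44), (1, 8), (1, 7), (-1, 33), (-1, 27), (-1, 22), (-1, 18), (-1, 42), (-1, 44), (-1, 43), (-1, 36), (-1, 8), (-1, 7), (-1, 43), (-1, 36), (-1, 6), (-1, 44), (-1, 8), (-1, 7), (-1, 8), (1, 56), (1, 53), (-1, 53), (-1, 56), (-1, 57), (-1, 59), (-1, 10), (1, 7)]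

/-- An equation. -/
def eqs2_71 : CfsgLib.Schur.Tails.Form := [(1, 41), (1, 34), (1, 8), (-1, 40), (-1, 18), (-1, 8), (-1, 8), (1, 56), (1, 54), (-1, 54), (-1, 56), (-1, 59), (1, 32), (1, 17), (1, 7)]

/-- An equation. -/
def eqs2_72 : CfsgLib.Schur.Tails.Form := [(1, 38), (1, 25), (1, 11), (1, 1), (1, 14), (1, 3), (1, 39), (1, 32), (1, 26), (1, 2), (1, 44), (1, 7), (1, 8), (1, 6), (1, 8), (1, 61), (1, 61), (-1, 4)]

/-- An equation. -/
def eqs2_73 : CfsgLib.Schur.Tails.Form := [(1, 38), (1, 25), (1, 1), (1, 43), (1, 36), (1, 6), (1, 44), (1, 8), (1, 62), (1, 62), (-1, 65), (-1, 21), (-1, 2), (-1, 5)]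

/-- An equation. -/
def eqs2_74 : CfsgLib.Schur.Tails.Form := [(1, 38), (1, 31), (1, 25), (1, 16), (1, 11), (1, 1), (1, 14), (1, 3), (1, 43), (1, 36), (1, 44), (1, 7), (1, 44), (1, 8), (1, 39), (1, 32), (1, 26), (1, 17), (1, 2), (1, 36), (1, 7), (1, 44), (1, 8), (1, 34), (1, 28), (1, 4), (1, 36), (1, 6), (1, 44), (1, 44), (1, 7), (1, 8), (1, 63), (1, 63), (-1, 13), (-1, 11), (-1, 1), (-1, 14), (-1, 3), (-1, 14), (-1, 2), (-1, 3)]

/-- An equation. -/
def eqs2_75 : CfsgLib.Schur.Tails.Form := [(1, 40), (1, 33), (1, 27), (1, 3), (1, 44), (1, 8), (1, 36), (1, 6), (1, 44), (1, 44), (1, 7), (1, 8), (1, 64), (1, 64), (-1, 11), (-1, 1), (-1, 14), (-1, 3), (-1, 2)]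

/-- An equation. -/
def eqs2_76 : CfsgLib.Schur.Tails.Form := [(1, 40), (1, 33), (1, 3), (1, 44), (1, 7), (1, 8), (1, 65), (1, 65), (-1, 7)]

/-- An equation. -/
def eqs2_77 : CfsgLib.Schur.Tails.Form := [(1, 40), (1, 3), (1, 8), (1, 66), (1, 66), (-1, 40), (-1, 27), (-1, 3), (-1, 8), (-1, 6), (-1, 8)]

/-- An equation. -/
def eqs2_78 : CfsgLib.Schur.Tails.Form := [(1, 8), (1, 67), (1, 67), (-1, 8)]

/-- An equation. -/
def eqs2_79 : CfsgLib.Schur.Tails.Form := [(1, 38), (1, 25), (1, 1), (1, 39), (1, 32), (1, 26), (1, 14), (1, 44), (1, 7), (1, 8), (1, 6), (1, 8), (-1, 38), (-1, 25), (-1, 11), (-1, 1), (-1, 14), (-1, 3), (-1, 43), (-1, 36), (-1, 6), (-1, 44), (-1, 8), (-1, 40), (-1, 33), (-1, 44), (-1, 7), (-1, 8), (1, 62), (1, 61), (-1, 61), (-1, 62), (-1, 65), (-1, 23), (1, 17), (1, 35), (1, 7)]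

/-- An equation. -/
def eqs2_80 : CfsgLib.Schur.Tails.Form := [(1, 38), (1, 31), (1, 25), (1, 16), (1, 11), (1, 1), (1, 14), (1, 3), (1, 43), (1, 36), (1, 44), (1, 7), (1, 44), (1, 8), (1, 43), (1, 36), (1, 6), (1, 44), (1, 8), (-1, 38), (-1, 25), (-1, 1), (-1, 39), (-1, 32), (-1, 26), (-1, 14), (-1, 44), (-1, 7), (-1, 8), (-1, 28), (-1, 6), (-1, 44), (-1, 8), (-1, 33), (-1, 18), (-1, 3), (-1, 44), (-1, 8), (1, 63), (1, 62), (-1, 62), (-1, 63), (-1, 66), (-1, 67), (-1, 14), (-1, 2), (1, 20), (1, 11), (1, 32), (1, 26), (1, 21), (1, 14), (1, 2), (1, 44), (1, 7), (1, 40), (1, 27), (1, 22), (1, 3), (1, 36), (1, 8), (1, 33), (1, 27), (1, 22), (1, 36), (1, 44), (1, 7), (1, 43), (1, 6), (1, 8), (1, 8)]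

/-- An equation. -/
def eqs2_81 : CfsgLib.Schur.Tails.Form := [(1, 38), (1, 31), (1, 25), (1, 13), (1, 7), (1, 8), (1, 26), (1, 14), (1, 43), (1, 36), (1, 6), (1, 44), (1, 8), (-1, 40), (-1, 27), (-1, 8), (-1, 6), (-1, 44), (-1, 8), (1, 64), (1, 61), (-1, 61), (-1, 64), (-1, 67), (1, 16), (1, 39), (1, 32), (1, 17), (1, 7), (1, 8)]

/-- A combination. -/
def tgt2_3 : ℕ × ℤ × List (ℤ × ℕ) := (3, -1128507394645950, [(-3440805833292681, 0), (12789719439750, 1), (5382345034831755, 2), (1631061122894607, 3), (-12789719439750, 4), (-98071102268010, 5), (-1838271492837585, 7), (3382839581835690, 8), (-576840225851670, 9), (-2328805035015870, 10), (7542658156778769, 11), (2583318430938981, 12), (-1809331490839035, 13), (-448425742112646, 14), (373986951056565, 15), (-263155011574755, 16), (6524424570481485, 17), (-1463474688522435, 18), (-875355432554895, 19), (534970765971780, 20), (-111641792740395, 21), (974846220869910, 22), (-1915501147845945, 23), (1838271492837585, 24), (625946593883793, 25), (-2261600466068970, 26), (-1838271492837585, 27), (-2994566672448615, 28), (3825784510184055, 36), (1340852351693907, 37), (-1163604349498035, 38), (-2859744808097970, 39), (1737921145670040, 40),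 (-52960594696560, 41), (-889101605458548, 42), (888145151994645, 43), (613321257990825, 44), (-742666835846595, 45), (308630268214230, 46), (881685599543910, 47), (208493744428275, 48), (664928252961975, 49), (293643992107950, 54), (-33602284473450, 55), (67204568946900, 56), (587287984215900, 58), (-654492553162800, 59), (201613706840700, 60), (-82970653453050, 65), (-220815012254100, 66), (-138778967226900, 67), (-331222518381150, 68), (-441630024508200, 69), (275688717602100, 70), (192169038159450, 71), (426323981325, 76), (6394859719875, 77), (852647962650, 79), (12789719439750, 80), (-12789719439750, 81)])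

/-- A combination. -/
def tgt2_4 : ℕ × ℤ × List (ℤ × ℕ) := (4, -56156310669250, [(-220236845398136, 0), (403310245661580, 2), (63595628981642, 3), (23196385224990, 5), (-118480225440160, 7), (224473135860240, 8), (-6906884504245, 9), (-138826640069320, 10), (382772738027864, 11), (185110832412436, 12), (-153213919504110, 13), (-10602763740826, 14), (13350352829990, 15), (-9821419670030, 16), (472608099753910, 17), (-92907004730960, 18), (-45237217720070, 19), (33290648482830, 20), (-15751801039170, 21), (82117987248060, 22), (-120605375007370, 23), (118480225440160, 24), (38802432749533, 25), (-136019072883820, 26), (-118480225440160, 27), (-227628215218415, 28), (298120267024430, 36), (72101397800442, 37), (-60351569255910, 38), (-183006442276420, 39), (90474435440140, 40), (-11600732349210, 41), (-48623852419563, 42), (45237217720070, 43), (8520465060950, 44), (-18340177239120, 45), (24867946926330, 46), (82754718537310, 47), (22166159606550, 48), (30371640270100, 49), (18265418698725, 54), (-1403783592750, 55), (2807567185500, 56), (36530837397450, 58), (-39338404582950, 59), (8422701556500, 60), (-1991656619150, 65), (-9224863609500, 66), (-9644372017500, 67), (-13837295414250, 68),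 (-18449727219000, 69), (14466413980700, 70), (-4088910568050, 71)])

/-- A combination. -/
def tgt2_5 : ℕ × ℤ × List (ℤ × ℕ) := (5, 0, [])

/-- A combination. -/
def tgt2_6 : ℕ × ℤ × List (ℤ × ℕ) := (6, 0, [])

/-- A combination. -/
def tgt2_7 : ℕ × ℤ × List (ℤ × ℕ) := (7, -5850080872900, [(77989619810392, 0), (-102973241719710, 2), (-58586869379074, 3), (-44130450383880, 5), (4481721224120, 7), (-16241179521030, 8), (47336354580515, 9), (-10018831128310, 10), (-173013670183858, 11), (-53662815764042, 12), (47692857516570, 13), (27264107414972, 14), (5476334253170, 15), (-1032742369640, 16), (-29539539486020, 17), (-963919126880, 18), (-9287153106710, 19), (5214602446290, 20), (6478382720640, 21), (-23942656915470, 22), (1441912933340, 23), (-4481721224120, 24), (12651146809549, 25), (-7211263942810, 26), (4481721224120, 27), (44900316634855, 28), (-57244530967810, 36), (-50081100560274, 37), (-6187865712330, 38), (879728931740, 39), (18574306213420, 40), (-5754870072480, 41), (-13683889179189, 42), (9287153106710, 43), (22240345914500, 44), (35903061845640, 45), (-3208099110210, 46), (-22908247920320, 47), (-51006538279050, 48), (2931878563000, 49), (-6887696199450, 54), (-1403783592750,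 55), (2807567185500, 56), (-13775392398900, 58), (10967825213400, 59), (8422701556500, 60), (-1991656619150, 65), (-9224863609500, 66), (-9644372017500, 67), (-13837295414250, 68), (-18449727219000, 69), (14466413980700, 70), (-4088910568050, 71)])

/-- A combination. -/
def tgt2_8 : ℕ × ℤ × List (ℤ × ℕ) := (8, 112312621338500, [(195488316853636, 0), (-432127395677130, 2), (-66593129138242, 3), (-42575064473340, 5), (182816631222035, 7), (-304450077281715, 8), (-49834547820805, 9), (209033991985595, 10), (-567915563331664, 11), (-152676052589336, 12), (117968374182210, 13), (-7880619927874, 14), (-50322761390440, 15), (25429049960905, 16), (-535449091348460, 17), (118646244935410, 18), (106858756923220, 19), (-59343562718280, 20), (38741336325720, 21), (-102834536705160, 22), (204902775466070, 23), (-182816631222035, 24), (-84715342880558, 25), (203418857614595, 26), (182816631222035, 27), (166104970476940, 28), (-272053668199180, 36), (-33298436979492, 37), (123128972517810, 38), (231677355499820, 39), (-213717513846440, 40), (8725996203660, 41), (110144392841463, 42), (-106858756923220, 43), (-58200572682550, 44), (-52121077249230, 45), (-42498159605280, 46), (-57182029987460, 47),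 (24267085054650, 48), (-79036455011600, 49), (-36530837397450, 54), (2807567185500, 55), (-5615134371000, 56), (-73061674794900, 58), (78676809165900, 59), (-16845403113000, 60), (3983313238300, 65), (18449727219000, 66), (19288744035000, 67), (27674590828500, 68), (36899454438000, 69), (-28932827961400, 70), (8177821136100, 71)])

/-- A combination. -/
def tgt2_9 : ℕ × ℤ × List (ℤ × ℕ) := (9, 0, [])

/-- A combination. -/
def tgt2_10 : ℕ × ℤ × List (ℤ × ℕ) := (10, 0, [])

/-- A combination. -/
def tgt2_11 : ℕ × ℤ × List (ℤ × ℕ) := (11, 0, [])

/-- A combination. -/
def tgt2_12 : ℕ × ℤ × List (ℤ × ℕ) := (12, 0, [])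

/-- A combination. -/
def tgt2_13 : ℕ × ℤ × List (ℤ × ℕ) := (13, 0, [(25153114898175, 1)])

/-- A combination. -/
def tgt2_14 : ℕ × ℤ × List (ℤ × ℕ) := (14, 1128507394645950, [(3440805833292681, 0), (-12789719439750, 1), (-5382345034831755, 2), (-1631061122894607, 3), (-12363395458425, 4), (98071102268010, 5), (1838271492837585, 7), (-3382839581835690, 8), (576840225851670, 9), (2328805035015870, 10), (-7542658156778769, 11), (-2583318430938981, 12), (1809331490839035, 13), (448425742112646, 14), (-373986951056565, 15), (263155011574755, 16), (-6524424570481485, 17), (1463474688522435, 18), (875355432554895, 19), (-534970765971780, 20), (111641792740395, 21), (-974846220869910, 22), (1915501147845945, 23), (-1838271492837585, 24), (-625946593883793, 25), (2261600466068970, 26), (1838271492837585, 27), (2994566672448615, 28), (-3825784510184055, 36), (-1340852351693907, 37), (1163604349498035, 38), (2859744808097970, 39), (-1737921145670040, 40), (52960594696560, 41), (889101605458548, 42), (-888145151994645, 43), (-613321257990825, 44), (742666835846595, 45), (-308630268214230, 46), (-881685599543910, 47), (-208493744428275, 48), (-664928252961975, 49), (-293643992107950, 54), (33602284473450,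 55), (-67204568946900, 56), (-587287984215900, 58), (654492553162800, 59), (-201613706840700, 60), (82970653453050, 65), (220815012254100, 66), (138778967226900, 67), (331222518381150, 68), (441630024508200, 69), (-275688717602100, 70), (-192169038159450, 71), (-426323981325, 76), (-6394859719875, 77), (-852647962650, 79), (-12789719439750, 80), (12789719439750, 81)])

/-- A combination. -/
def tgt2_15 : ℕ × ℤ × List (ℤ × ℕ) := (15, 0, [(31810239694941, 0), (-40046144984130, 2), (3865427301348, 3), (-5408416800240, 5), (3340492729560, 7), (-13958487477090, 8), (-4155732026655, 9), (7078663165020, 10), (8446674473316, 11), (-18090358841391, 12), (19645278671460, 13), (-1554919830069, 14), (8311464053310, 15), (-1908852988320, 16), (-43903618731360, 17), (7118430935610, 18), (-6442378835580, 19), (-1869085217730, 20), (-1869085217730, 21), (-3141653876610, 22), (-3062118335430, 23), (-3340492729560, 24), (11930331177, 25), (7078663165020, 26), (3340492729560, 27), (36526697286915, 28), (-40046144984130, 36), (3865427301348, 37), (755587641210, 38), (14236861871220, 39), (12884757671160, 40), (3738170435460, 41), (-1920783319497, 42), (6442378835580, 43), (-4573293617850, 44), (-4155732026655,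 45), (-1869085217730, 46), (-2545137317760, 47), (-9146587235700, 48), (9146587235700, 49)])

/-- A combination. -/
def tgt2_16 : ℕ × ℤ × List (ℤ × ℕ) := (16, -53231270232800, [(-191598607860919, 0), (345097471348920, 2), (81042244812418, 3), (46931856781710, 5), (-111395543848865, 7), (187338002689335, 8), (-9687040292105, 9), (-118248142319180, 10), (435007708425331, 11), (151169133278819, 12), (-118025092821540, 13), (-22496965873529, 14), (19142372494960, 15), (-14633929744270, 16), (364813600538540, 17), (-74648851713790, 18), (-46002057966955, 19), (27561577268370, 20), (-22112762390805, 21), (70646214942990, 22), (-115202094803180, 23), (111395543848865, 24), (33138992725082, 25), (-116844358726430, 26), (-111395543848865, 27), (-159636521271535, 28), (242196252233995, 36), (60142014323643, 37), (-65628752108940, 38), (-147893919834830, 39), (92004115933910, 40), (-2479757330340, 41), (-47772922469352, 42), (46002057966955, 43), (20266760192950, 44), (-2827129210455, 45), (23350226490120, 46), (53566180954490, 47), (17943020230050, 48), (33478994606450, 49), (21709266798450, 54), (-701891796375, 55), (1403783592750, 56), (43418533596900, 58), (-44822317189650, 59), (4211350778250,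 60), (-995828309575, 65), (-4612431804750, 66), (-4822186008750, 67), (-6918647707125, 68), (-9224863609500, 69), (7233206990350, 70), (-2044455284025, 71)])

/-- A combination. -/
def tgt2_17 : ℕ × ℤ × List (ℤ × ℕ) := (17, 2925040436450, [(-67476487201754, 0), (71509693351920, 2), (52513835937038, 3), (24769433592060, 5), (-3911106976840, 7), (15099833499060, 8), (-46743426175105, 9), (1470083981645, 10), (132589727651621, 11), (48453144751804, 12), (-33669068094015, 13), (-25431151241539, 14), (-6893899153240, 15), (1470797678980, 16), (36721579108690, 17), (-3077255904365, 18), (7864765971145, 19), (-1672758614280, 20), (-2304648751455, 21), (13542155396040, 22), (810102701045, 23), (3911106976840, 24), (-6331538570363, 25), (66300388895, 26), (-3911106976840, 27), (-40713506960885, 28), (48645337975970, 36), (48260951527638, 37), (2716139035560, 38), (-7558295401480, 39), (-15729531942290, 40), (1008349818510, 41), (7802336249343, 42), (-7864765971145, 43), (-8833526148325, 44), (-28450222358580, 45), (2538592163970, 46), (12726692619040, 47), (30076562757375, 48), (-6039232899350, 49), (3443848099725, 54), (701891796375, 55), (-1403783592750, 56), (6887696199450, 58), (-5483912606700,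 59), (-4211350778250, 60), (995828309575, 65), (4612431804750, 66), (4822186008750, 67), (6918647707125, 68), (9224863609500, 69), (-7233206990350, 70), (2044455284025, 71)])

/-- A combination. -/
def tgt2_18 : ℕ × ℤ × List (ℤ × ℕ) := (18, -112312621338500, [(-316557317637832, 0), (569008062047910, 2), (126117528157354, 3), (45100317905805, 5), (-204350878996520, 7), (352211169760305, 8), (-2877632096240, 9), (-234902926754390, 10), (687739832896393, 11), (250878585284282, 12), (-188914076914770, 13), (-19376210034512, 14), (29981546733655, 15), (-27496974031585, 16), (663958642010045, 17), (-140279912136370, 18), (-88684885763590, 19), (61510906215435, 20), (-36573992828565, 21), (120392007420645, 22), (-204027884513090, 23), (204350878996520, 24), (73409365701821, 25), (-229287792383390, 26), (-204350878996520, 27), (-287933535679405, 28), (408934334569960, 36), (92822835998604, 37), (-118118233423470, 38), (-274944689901740, 39), (177369771527180, 40), (-13060683197970, 41), (-100906339733406, 42), (88684885763590, 43), (49053985446850, 44), (-591102667815, 45), (44665503102435, 46), (87962284424120, 47), (7745970270300, 48), (72176514584825, 49), (36530837397450, 54), (-2807567185500,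 55), (5615134371000, 56), (73061674794900, 58), (-78676809165900, 59), (16845403113000, 60), (-3983313238300, 65), (-18449727219000, 66), (-19288744035000, 67), (-27674590828500, 68), (-36899454438000, 69), (28932827961400, 70), (-8177821136100, 71)])

/-- A combination. -/
def tgt2_19 : ℕ × ℤ × List (ℤ × ℕ) := (19, 59081351105700, [(90495959783619, 0), (-204901596356970, 2), (-18025245789618, 3), (15014554826490, 5), (97389441568440, 7), (-159146608106010, 8), (-32837414047020, 9), (118265379144105, 10), (-256971368815956, 11), (-76679936056794, 12), (54445010954265, 13), (-9706298648721, 14), (-34242507230910, 15), (17515873446345, 16), (-267589315508340, 17), (64000581828390, 18), (64674404932905, 19), (-32537573091120, 20), (15872986293705, 21), (-45232150515690, 22), (112010399963880, 23), (-97389441568440, 24), (-43758006457482, 25), (114054028365855, 26), (97389441568440, 27), (81709071161685, 28), (-122575973095770, 36), (-5630784119643, 37), (66368433250440, 38), (123789812878530, 39), (-129348809865810, 40), (7757414155740, 41), (61273879903827, 42), (-64674404932905, 43), (-33360518871750, 44), (-28264032393795, 45), (-19903520756370, 46), (-28192331257590, 47), (26203577622225,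 48), (-54704047640850, 49), (-14821570599000, 54), (2105675389125, 55), (-4211350778250, 56), (-29643141198000, 58), (33854491976250, 59), (-12634052334750, 60), (2987484928725, 65), (13837295414250, 66), (14466558026250, 67), (20755943121375, 68), (27674590828500, 69), (-21699620971050, 70), (6133365852075, 71)])

/-- A combination. -/
def tgt2_20 : ℕ × ℤ × List (ℤ × ℕ) := (20, 5850080872900, [(-37744635973312, 0), (77820126821535, 2), (28403131501264, 3), (44130450383880, 5), (-4481721224120, 7), (16241179521030, 8), (-22183239682340, 9), (10018831128310, 10), (87493079530063, 11), (38570946825137, 12), (-47692857516570, 13), (-12172238476067, 14), (-5476334253170, 15), (1032742369640, 16), (29539539486020, 17), (963919126880, 18), (9287153106710, 19), (-5214602446290, 20), (-6478382720640, 21), (23942656915470, 22), (-1441912933340, 23), (4481721224120, 24), (-7620523829914, 25), (7211263942810, 26), (-4481721224120, 27), (-19747201736680, 28), (57244530967810, 36), (19897362682464, 37), (6187865712330, 38), (-879728931740, 39), (-18574306213420, 40), (5754870072480, 41), (8653266199554, 42), (-9287153106710, 43), (-22240345914500, 44), (-10749946947465, 45), (3208099110210, 46), (22908247920320,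 47), (25853423380875, 48), (-2931878563000, 49), (6887696199450, 54), (1403783592750, 55), (-2807567185500, 56), (13775392398900, 58), (-10967825213400, 59), (-8422701556500, 60), (1991656619150, 65), (9224863609500, 66), (9644372017500, 67), (13837295414250, 68), (18449727219000, 69), (-14466413980700, 70), (4088910568050, 71)])

/-- A combination. -/
def tgt2_21 : ℕ × ℤ × List (ℤ × ℕ) := (21, 59081351105700, [(122306199478560, 0), (-244947741341100, 2), (-39312933386445, 3), (9606138026250, 5), (100729934298000, 7), (-173105095583100, 8), (-11840031175500, 9), (125344042309125, 10), (-298830924138990, 11), (-94770294898185, 12), (74090289625725, 13), (-11261218478790, 14), (-25931043177600, 15), (15607020458025, 16), (-311492934239700, 17), (71119012764000, 18), (58232026097325, 19), (-34406658308850, 20), (14003901075975, 21), (-48373804392300, 22), (108948281628450, 23), (-100729934298000, 24), (-43746076126305, 25), (121132691530875, 26), (100729934298000, 27), (118235768448600, 28), (-162622118079900, 36), (-26918471716470, 37), (67124020891650, 38), (138026674749750, 39), (-116464052194650, 40), (11495584591200, 41), (59353096584330, 42), (-58232026097325, 43), (-37933812489600,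 44), (-7266649522275, 45), (-21772605974100, 46), (-30737468575350, 47), (17056990386525, 48), (-45557460405150, 49), (-14821570599000, 54), (2105675389125, 55), (-4211350778250, 56), (-29643141198000, 58), (33854491976250, 59), (-12634052334750, 60), (2987484928725, 65), (13837295414250, 66), (14466558026250, 67), (20755943121375, 68), (27674590828500, 69), (-21699620971050, 70), (6133365852075, 71)])

/-- A combination. -/
def tgt2_22 : ℕ × ℤ × List (ℤ × ℕ) := (22, 25153114898175, [])

/-- A combination. -/
def tgt2_23 : ℕ × ℤ × List (ℤ × ℕ) := (23, 0, [(30454158717822, 0), (-86852810968560, 2), (3078025443666, 3), (-8033089659180, 5), (13839184165320, 7), (-36268206778080, 8), (-2843395597185, 9), (14952681741840, 10), (-1658316033603, 11), (-41887392762447, 12), (45454561784370, 13), (-3567169021923, 14), (5686791194370, 15), (-4314803109015, 16), (-124393586405520, 17), (18710736062595, 18), (-5130042406110, 19), (-556748788260, 20), (-556748788260, 21), (-20202027459720, 22), (12467196079965, 23), (-13839184165320, 24), (-1387895193591, 25), (14952681741840, 26), (13839184165320, 27), (68678939808930, 28), (-86852810968560, 36), (3078025443666, 37), (-4056312600180, 38), (37421472125190,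 39), (10260084812220, 40), (1113497576520, 41), (-2926907915424, 42), (5130042406110, 43), (20579821280325, 44), (-2843395597185, 45), (-556748788260, 46), (-39290557342920, 47), (-9146587235700, 48), (9146587235700, 49)])

/-- A combination. -/
def tgt2_24 : ℕ × ℤ × List (ℤ × ℕ) := (24, 0, [(121407026834211, 0), (-119681105590605, 2), (-68253424663617, 3), (-12566615506440, 5), (13680113082960, 7), (-42790121154840, 8), (68022771594195, 9), (19406672047920, 10), (-140762000780364, 11), (-93967265127111, 12), (64881117717585, 13), (29086147409526, 14), (14873146200660, 15), (2962698908955, 16), (-158235959177610, 17), (13580693656485, 18), (-12009866718180, 19), (-2863279482480, 20), (-2863279482480, 21), (-17656890141960, 22), (-4155732026655, 23), (-13680113082960, 24), (15859386911292, 25), (19406672047920, 26), (13680113082960, 27), (119641337820015, 28), (-119681105590605, 36), (-68253424663617, 37), (-10081129844565, 38), (52314502211145, 39), (24019733436360, 40), (5726558964960, 41), (-12896688002337, 42), (12009866718180, 43), (16006527662475, 44), (68022771594195, 45), (-2863279482480, 46), (-29587221318960, 47), (-43446289369575, 48), (18293174471400, 49)])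

/-- A combination. -/
def tgt2_25 : ℕ × ℤ × List (ℤ × ℕ) := (25, 25153114898175, [(-6657124796766, 0), (40046144984130, 2), (-3865427301348, 3), (5408416800240, 5), (-3340492729560, 7), (13958487477090, 8), (4155732026655, 9), (-7078663165020, 10), (-33599789371491, 11), (18090358841391, 12), (-19645278671460, 13), (1554919830069, 14), (-8311464053310, 15), (1908852988320, 16), (43903618731360, 17), (-7118430935610, 18), (6442378835580, 19), (1869085217730, 20), (1869085217730, 21), (3141653876610, 22), (3062118335430, 23), (3340492729560, 24), (-11930331177, 25), (-7078663165020, 26), (-3340492729560, 27), (-36526697286915, 28), (40046144984130, 36), (-3865427301348, 37), (-755587641210, 38), (-14236861871220, 39), (-38037872569335, 40), (-3738170435460, 41), (1920783319497, 42), (-6442378835580, 43), (4573293617850, 44), (4155732026655, 45), (1869085217730, 46), (2545137317760, 47), (-16006527662475, 48), (-9146587235700, 49)])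

/-- A combination. -/
def tgt2_26 : ℕ × ℤ × List (ℤ × ℕ) := (26, -87159506440325, [(-393038694036520, 0), (687158108470800, 2), (156356940913990, 3), (65103506512575, 5), (-222624169582625, 7), (407905932471600, 8), (-24312460444250, 9), (-251466203205125, 10), (764066114989780, 11), (325073314874045, 12), (-243077780458350, 13), (-39407236080695, 14), (22544973633325, 15), (-27835000081600, 16), (781949617350575, 17), (-157360169604775, 18), (-80393305595575, 19), (60655899147750, 20), (-37428999896250, 21), (136080392918400, 22), (-214526575948850, 23), (222624169582625, 24), (68223648416885, 25), (-245851068834125, 26), (-222624169582625, 27), (-360330762038500, 28), (527084380992850, 36), (123062248755240, 37), (-127940872759200, 38), (-309105204838550, 39), (160786611191150, 40), (-36503783960775, 41), (-96058648498485, 42), (80393305595575, 43), (58200572682550, 44), (-22025931015825, 45), (43810496034750, 46), (95895954656825, 47), (886029843525, 48), (53883340113425, 49), (36530837397450, 54), (-2807567185500, 55), (5615134371000, 56), (73061674794900, 58), (-78676809165900, 59), (16845403113000, 60), (-3983313238300, 65), (-18449727219000, 66), (-19288744035000, 67), (-27674590828500,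 68), (-36899454438000, 69), (28932827961400, 70), (-8177821136100, 71)])

/-- A combination. -/
def tgt2_27 : ℕ × ℤ × List (ℤ × ℕ) := (27, -112312621338500, [(-195488316853636, 0), (432127395677130, 2), (66593129138242, 3), (17421949575165, 5), (-182816631222035, 7), (304450077281715, 8), (49834547820805, 9), (-209033991985595, 10), (567915563331664, 11), (152676052589336, 12), (-117968374182210, 13), (7880619927874, 14), (50322761390440, 15), (-25429049960905, 16), (510295976450285, 17), (-118646244935410, 18), (-106858756923220, 19), (59343562718280, 20), (-38741336325720, 21), (102834536705160, 22), (-204902775466070, 23), (182816631222035, 24), (84715342880558, 25), (-203418857614595, 26), (-182816631222035, 27), (-166104970476940, 28), (272053668199180, 36), (33298436979492, 37), (-123128972517810, 38), (-231677355499820, 39), (213717513846440, 40), (-8725996203660, 41), (-110144392841463, 42), (106858756923220, 43), (58200572682550, 44), (52121077249230, 45), (42498159605280, 46), (57182029987460, 47), (-24267085054650, 48), (79036455011600, 49), (36530837397450, 54), (-2807567185500, 55), (5615134371000, 56), (73061674794900, 58), (-78676809165900, 59), (16845403113000, 60), (-3983313238300,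 65), (-18449727219000, 66), (-19288744035000, 67), (-27674590828500, 68), (-36899454438000, 69), (28932827961400, 70), (-8177821136100, 71)])

/-- A combination. -/
def tgt2_28 : ℕ × ℤ × List (ℤ × ℕ) := (28, 0, [(13123364294700, 0), (-30621183354300, 2), (4374454764900, 3), (-2187227382450, 5), (8748909529800, 7), (-18591432750825, 8), (1093613691225, 9), (6561682147350, 10), (-10936136912250, 11), (-13123364294700, 12), (13123364294700, 13), (-2187227382450, 15), (2187227382450, 16), (-25153114898175, 17), (5468068456125, 18), (1093613691225, 19), (1093613691225, 20), (1093613691225, 21), (-14216977985925, 22), (8748909529800, 23), (-8748909529800, 24), (2187227382450, 25), (6561682147350, 26), (8748909529800, 27), (14216977985925, 28), (-30621183354300, 36), (4374454764900, 37), (4374454764900, 38), (10936136912250, 39), (-2187227382450, 40), (-2187227382450, 41), (-1093613691225, 43), (1093613691225, 45), (1093613691225, 46), (-5468068456125, 47)])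

/-- A combination. -/
def tgt2_29 : ℕ × ℤ × List (ℤ × ℕ) := (29, 0, [(-16793929520157, 0), (-20023072492065, 2), (17024582589579, 3), (-2704208400120, 5), (1670246364780, 7), (-6979243738545, 8), (-14654423462415, 9), (3539331582510, 10), (34407075114468, 11), (-1499244951243, 12), (9822639335730, 13), (-8323394384487, 14), (4155732026655, 15), (-954426494160, 16), (-21951809365680, 17), (3559215467805, 18), (-3221189417790, 19), (-934542608865, 20), (-934542608865, 21), (-1570826938305, 22), (-1531059167715, 23), (-1670246364780, 24), (-2509346324229, 25), (3539331582510, 26), (1670246364780, 27), (5686791194370, 28), (-20023072492065, 36), (17024582589579, 37), (377793820605, 38), (7118430935610, 39), (6442378835580, 40), (1869085217730, 41), (1554919830069, 42), (3221189417790, 43), (-2286646808925, 44), (-14654423462415, 45), (-934542608865, 46), (-1272568658880, 47), (20579821280325, 48), (4573293617850, 49)])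

/-- A combination. -/
def tgt2_30 : ℕ × ℤ × List (ℤ × ℕ) := (30, 0, [(-6657124796766, 0), (40046144984130, 2), (-3865427301348, 3), (5408416800240, 5), (-3340492729560, 7), (13958487477090, 8), (4155732026655, 9), (-7078663165020, 10), (-8446674473316, 11), (18090358841391, 12), (-19645278671460, 13), (1554919830069, 14), (-8311464053310, 15), (1908852988320, 16), (43903618731360, 17), (-7118430935610, 18), (6442378835580, 19), (1869085217730, 20), (1869085217730, 21), (3141653876610, 22), (3062118335430, 23), (3340492729560, 24), (-11930331177, 25), (-7078663165020, 26), (-3340492729560, 27), (-36526697286915, 28), (40046144984130, 36), (-3865427301348, 37), (-755587641210, 38), (-14236861871220, 39), (-12884757671160, 40), (-3738170435460, 41), (1920783319497, 42), (-6442378835580, 43), (4573293617850, 44), (4155732026655, 45), (1869085217730, 46), (2545137317760, 47), (9146587235700, 48), (-9146587235700, 49)])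

/-- A combination. -/
def tgt2_31 : ℕ × ℤ × List (ℤ × ℕ) := (31, -112312621338500, [(-198884484462022, 0), (448710556013160, 2), (61375597636834, 3), (22134430390080, 5), (-187946673628145, 7), (320496372714780, 8), (46334984008885, 9), (-216311494003565, 10), (577941018297403, 11), (158358867006647, 12), (-126578096514945, 13), (10807527843298, 14), (57321889014280, 15), (-29684201414035, 16), (538193067519170, 17), (-120594865694320, 18), (-114931614352990, 19), (60417292524210, 20), (-37667606519790, 21), (109455870508395, 22), (-212776794042890, 23), (187946673628145, 24), (81283384278641, 25), (-210696359632565, 26), (-187946673628145, 27), (-176384939174455, 28), (288636828535210, 36), (28080905478084, 37), (-122492688188370, 38), (-235574597017640, 39), (229863228705980, 40), (-10873455815520, 41), (-110967585692676, 42), (114931614352990, 43), (49053985446850, 44), (48621513437310, 45), (43571889411210, 46), (68277237982070, 47), (-17407144627875, 48), (97329629483000, 49), (36530837397450, 54), (-2807567185500, 55), (5615134371000, 56), (73061674794900, 58), (-78676809165900, 59), (16845403113000, 60), (-3983313238300, 65), (-18449727219000, 66), (-19288744035000, 67), (-27674590828500,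 68), (-36899454438000, 69), (28932827961400, 70), (-8177821136100, 71)])

/-- A combination. -/
def tgt2_32 : ℕ × ℤ × List (ℤ × ℕ) := (32, 0, [(56963354593116, 0), (-40046144984130, 2), (-46440802495002, 3), (-5408416800240, 5), (3340492729560, 7), (-13958487477090, 8), (46150497769695, 9), (7078663165020, 10), (-92165785119384, 11), (-43243473739566, 12), (19645278671460, 13), (23598195068106, 14), (8311464053310, 15), (-1908852988320, 16), (-43903618731360, 17), (7118430935610, 18), (-6442378835580, 19), (-1869085217730, 20), (-1869085217730, 21), (-3141653876610, 22), (-3062118335430, 23), (-3340492729560, 24), (11930331177, 25), (7078663165020, 26), (3340492729560, 27), (36526697286915, 28), (-40046144984130, 36), (-46440802495002, 37), (755587641210, 38), (14236861871220, 39), (12884757671160, 40), (3738170435460, 41), (-1920783319497, 42), (6442378835580, 43), (-4573293617850, 44), (46150497769695, 45), (-1869085217730, 46), (-2545137317760, 47), (-9146587235700, 48), (9146587235700, 49)])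

/-- A combination. -/
def tgt2_33 : ℕ × ℤ × List (ℤ × ℕ) := (33, 0, [(-6454309166757, 0), (50365881452235, 2), (-19164088647321, 3), (-616400444145, 5), (-18114219503745, 7), (37063562189880, 8), (8311464053310, 9), (-21017266756815, 10), (-886821284157, 11), (15600896402457, 12), (-23284029680445, 13), (7683133277988, 14), (8530186791555, 15), (-7615528067985, 16), (76374003418095, 17), (-11950215062295, 18), (-9981710418090, 19), (1451523626535, 20), (1451523626535, 21), (13143248179995, 22), (-19028878227315, 23), (18114219503745, 24), (-2310507471279, 25), (-21017266756815, 26), (-18114219503745, 27), (-22747164777480, 28), (50365881452235, 36), (-19164088647321, 37), (-3797822091345, 38), (-23900430124590, 39), (19963420836180, 40), (-2903047253070, 41), (-5305020596706, 42), (9981710418090, 43), (-11433234044625, 44), (8311464053310, 45), (1451523626535, 46), (23383449106920, 47), (2286646808925, 48), (-2286646808925, 49)])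

/-- A combination. -/
def tgt2_34 : ℕ × ℤ × List (ℤ × ℕ) := (34, 0, [(56963354593116, 0), (-40046144984130, 2), (-46440802495002, 3), (-5408416800240, 5), (3340492729560, 7), (-13958487477090, 8), (20997382871520, 9), (7078663165020, 10), (-92165785119384, 11), (-43243473739566, 12), (19645278671460, 13), (23598195068106, 14), (8311464053310, 15), (-1908852988320, 16), (-43903618731360, 17), (7118430935610, 18), (-6442378835580, 19), (-1869085217730, 20), (-1869085217730, 21), (-3141653876610, 22), (-3062118335430, 23), (-3340492729560, 24), (11930331177, 25), (7078663165020, 26), (3340492729560, 27), (36526697286915, 28), (-40046144984130, 36), (-46440802495002, 37), (755587641210, 38), (14236861871220, 39), (12884757671160, 40), (3738170435460, 41), (-1920783319497, 42), (6442378835580, 43), (-4573293617850, 44), (20997382871520, 45), (-1869085217730, 46), (-2545137317760, 47), (-9146587235700, 48), (9146587235700, 49)])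

/-- A combination. -/
def tgt2_35 : ℕ × ℤ × List (ℤ × ℕ) := (35, 0, [(25153114898175, 11)])

/-- A combination. -/
def tgt2_36 : ℕ × ℤ × List (ℤ × ℕ) := (36, 0, [(-23451054316923, 0), (20023072492065, 2), (13159155288231, 3), (2704208400120, 5), (-1670246364780, 7), (6979243738545, 8), (-10498691435760, 9), (-3539331582510, 10), (25960400641152, 11), (16591113890148, 12), (-9822639335730, 13), (-6768474554418, 14), (-4155732026655, 15), (954426494160, 16), (21951809365680, 17), (-3559215467805, 18), (3221189417790, 19), (934542608865, 20), (934542608865, 21), (1570826938305, 22), (1531059167715, 23), (1670246364780, 24), (-2521276655406, 25), (-3539331582510, 26), (-1670246364780, 27), (-30839906092545, 28), (20023072492065, 36), (13159155288231, 37), (-377793820605, 38), (-7118430935610, 39), (-6442378835580, 40), (-1869085217730, 41), (3475703149566, 42), (-3221189417790, 43), (2286646808925, 44), (-10498691435760, 45), (934542608865, 46), (1272568658880, 47), (4573293617850, 48), (-4573293617850, 49)])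

/-- A combination. -/
def tgt2_37 : ℕ × ℤ × List (ℤ × ℕ) := (37, 0, [(-13123364294700, 0), (30621183354300, 2), (-4374454764900, 3), (2187227382450, 5), (-8748909529800, 7), (18591432750825, 8), (-1093613691225, 9), (-6561682147350, 10), (10936136912250, 11), (13123364294700, 12), (-13123364294700, 13), (2187227382450, 15), (-2187227382450, 16), (50306229796350, 17), (-5468068456125, 18), (-1093613691225, 19), (-1093613691225, 20), (-1093613691225, 21), (14216977985925, 22), (-8748909529800, 23), (8748909529800, 24), (-2187227382450, 25), (-6561682147350, 26), (-8748909529800, 27), (-14216977985925, 28), (30621183354300, 36), (-4374454764900, 37), (-4374454764900, 38), (-10936136912250, 39), (2187227382450, 40), (2187227382450, 41), (1093613691225, 43), (-1093613691225, 45), (-1093613691225, 46), (30621183354300, 47)])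

/-- A combination. -/
def tgt2_38 : ℕ × ℤ × List (ℤ × ℕ) := (38, 0, [(-34462749993294, 0), (19008994342020, 2), (27050037555318, 3), (13183015950585, 5), (4434106420785, 7), (5726558964960, 8), (-26028005851155, 9), (1610594708895, 10), (-4239244344894, 11), (23029515948669, 12), (-16443973138965, 13), (-6585542809704, 14), (-23403332992215, 15), (4652829159030, 16), (31555725963165, 17), (-1630478594190, 18), (21991577136270, 19), (1411755855945, 20), (1411755855945, 21), (4513641961965, 22), (23184610253970, 23), (-4434106420785, 24), (-3487633480743, 25), (1610594708895, 26), (4434106420785, 27), (-46587943246185, 28), (19008994342020, 36), (27050037555318, 37), (13878951935910, 38), (-3260957188380, 39), (-43983154272540, 40), (-2823511711890, 41), (8140462639773, 42), (3161537761905, 43), (-4573293617850, 44), (-26028005851155, 45), (1411755855945, 46), (6203772212040, 47), (16006527662475, 48), (-16006527662475, 49)])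

/-- A combination. -/
def tgt2_39 : ℕ × ℤ × List (ℤ × ℕ) := (39, 0, [(20551983840912, 0), (-10697530288710, 2), (-7539969303864, 3), (18313058356695, 5), (-4652829159030, 7), (10458923665170, 8), (10279968697515, 9), (4513641961965, 10), (-5297067042588, 11), (-9118749796287, 12), (8569954562145, 13), (548795234142, 14), (4593177503145, 15), (-934542608865, 16), (-46647594902070, 17), (13441506459420, 18), (-12586499391735, 19), (7993321888590, 20), (-17159793009585, 21), (-1014078150045, 22), (-8311464053310, 23), (4652829159030, 24), (10224293818689, 25), (4513641961965, 26), (-4652829159030, 27), (38057756454630, 28), (-10697530288710, 36), (-7539969303864, 37), (-6442378835580, 38), (26883012918840, 39), (25172998783470, 40), (-15986643777180, 41), (-11158836427554, 42), (12586499391735, 43), (4573293617850, 44), (10279968697515, 45), (-17159793009585, 46), (-18014800077270, 47), (-16006527662475, 48), (16006527662475, 49)])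

/-- A combination. -/
def tgt2_40 : ℕ × ℤ × List (ℤ × ℕ) := (40, 0, [(66666690617076, 0), (-123359624370180, 2), (-9973756863972, 3), (-33245856213240, 5), (32370965260260, 7), (-56211743728965, 8), (-8530186791555, 9), (24278223945195, 10), (-27384086828274, 11), (-66666690617076, 12), (58617693849660, 13), (8048996767416, 14), (17060373583110, 15), (3062118335430, 16), (-105643082572335, 17), (12685918818210, 18), (-8530186791555, 19), (-8530186791555, 20), (16622928106620, 21), (-14873146200660, 22), (12248473341720, 23), (-32370965260260, 24), (-962380048278, 25), (24278223945195, 26), (32370965260260, 27), (80271244935915, 28), (-123359624370180, 36), (-9973756863972, 37), (6124236670860, 38), (25371837636420, 39), (17060373583110, 40), (17060373583110, 41), (4024498383708, 42), (8530186791555, 43), (-8530186791555, 45), (-8530186791555, 46), (-12685918818210, 47)])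

/-- A combination. -/
def tgt2_41 : ℕ × ℤ × List (ℤ × ℕ) := (41, 0, [(26246728589400, 0), (-61242366708600, 2), (8748909529800, 3), (-4374454764900, 5), (17497819059600, 7), (-37182865501650, 8), (2187227382450, 9), (13123364294700, 10), (-21872273824500, 11), (-26246728589400, 12), (26246728589400, 13), (-4374454764900, 15), (4374454764900, 16), (-50306229796350, 17), (10936136912250, 18), (2187227382450, 19), (2187227382450, 20), (2187227382450, 21), (-3280841073675, 22), (17497819059600, 23), (-17497819059600, 24), (4374454764900, 25), (13123364294700, 26), (17497819059600, 27), (28433955971850, 28), (-61242366708600, 36), (8748909529800, 37), (8748909529800, 38), (21872273824500, 39), (-4374454764900, 40), (-4374454764900, 41), (-2187227382450, 43), (2187227382450, 45), (2187227382450, 46), (-10936136912250, 47)])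

/-- A combination. -/
def tgt2_42 : ℕ × ℤ × List (ℤ × ℕ) := (42, 0, [(10673669626356, 0), (-16185482630130, 2), (-5161856622582, 3), (-437445476490, 5), (1749781905960, 7), (-3718286550165, 8), (218722738245, 9), (1312336429470, 10), (-24321968492844, 11), (-10673669626356, 12), (12685918818210, 13), (-2012249191854, 14), (-437445476490, 15), (-4593177503145, 16), (-30183737877810, 17), (6124236670860, 18), (218722738245, 19), (218722738245, 20), (218722738245, 21), (-2843395597185, 22), (6780404885595, 23), (-1749781905960, 24), (-3587052907218, 25), (1312336429470, 26), (1749781905960, 27), (17935264536090, 28), (-16185482630130, 36), (-5161856622582, 37), (-9186355006290, 38), (12248473341720, 39), (-437445476490, 40), (-437445476490, 41), (-1006124595927, 42), (-218722738245, 43), (218722738245, 45), (218722738245, 46), (-6124236670860, 47)])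

/-- A combination. -/
def tgt2_43 : ℕ × ℤ × List (ℤ × ℕ) := (43, 0, [(25153114898175, 17)])

/-- A combination. -/
def tgt2_44 : ℕ × ℤ × List (ℤ × ℕ) := (44, 0, [(26509195875294, 0), (-53805793608270, 2), (787401857682, 3), (2624672858940, 5), (14654423462415, 7), (-27996510495360, 8), (-1312336429470, 9), (17279096321355, 10), (-15048124391256, 11), (-26509195875294, 12), (24496946683440, 13), (2012249191854, 14), (2624672858940, 15), (2405950120695, 16), (-70428721714890, 17), (13560809771190, 18), (-1312336429470, 19), (-1312336429470, 20), (-1312336429470, 21), (-8092741315065, 22), (9623800482780, 23), (-14654423462415, 24), (1399825524768, 25), (17279096321355, 26), (14654423462415, 27), (43307102172510, 28), (-53805793608270, 36), (787401857682, 37), (4811900241390, 38), (27121619542380, 39), (2624672858940, 40), (2624672858940, 41), (1006124595927, 42), (1312336429470, 43), (-1312336429470, 45), (-1312336429470, 46), (-13560809771190, 47)])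

/-- The certificate. -/
def cert2 : CfsgLib.Schur.Tails.Cert :=
  { r := 9, a := 3, p := 2, fuel := 37, width := 8,
    rules := [([0, 0], [4, 7]), ([1, 1], [3]), ([2, 2], []), ([3, 3], []), ([4, 4], []), ([5, 5], [7]), ([6, 6], [8]), ([7, 7], []), ([8, 8], []), ([1, 0], [0, 1, 5]), ([2, 0], [0, 2, 4, 5]), ([2, 1], [1, 2, 3]), ([3, 0], [0, 3, 6]), ([3, 1], [1, 3]), ([3, 2], [2, 3]), ([4, 0], [0, 4]), ([4, 1], [1, 4, 7, 8]), ([4, 2], [2, 4, 7]), ([4, 3], [3, 4, 8]), ([5, 0], [0, 5]), ([5, 1], [1, 5, 6, 7]), ([5, 2], [2, 5]), ([5, 3], [3, 5, 7]), ([5, 4], [4, 5]), ([6, 0], [0, 6]), ([6, 1], [1, 6, 7]), ([6, 2], [2, 6, 7, 8]), ([6, 3], [3, 6, 8]), ([6, 4], [4, 6]), ([6, 5], [5, 6]), ([7, 0], [0, 7]), ([7, 1], [1, 7, 8]), ([7, 2], [2, 7]), ([7, 3], [3, 7]), ([7, 4], [4, 7]), ([7, 5], [5, 7]), ([7, 6], [6, 7]), ([8, 0], [0, 8]), ([8, 1], [1, 8]), ([8, 2], [2, 8]), ([8, 3], [3, 8]), ([8, 4], [4, 8]), ([8, 5], [5, 8]), ([8, 6], [6, 8]), ([8, 7], [7, 8])],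
    ix := [[0, 0, 0, 0, 0, 0, 0, 0, 0], [9, 1, 0, 0, 0, 0, 0, 0, 0], [10, 11, 2, 0, 0, 0, 0, 0, 0], [12, 13, 14, 3, 0, 0, 0, 0, 0], [15, 16, 17, 18, 4, 0, 0, 0, 0], [19, 20, 21, 22, 23, 5, 0, 0, 0], [24, 25, 26, 27, 28, 29, 6, 0, 0], [30, 31, 32, 33, 34, 35, 36, 7, 0], [37, 38, 39, 40, 41, 42, 43, 44, 8]],
    ovl := [([0], 0, []), ([1], 1, []), ([1], 9, []), ([2], 10, []), ([2], 11, []), ([3], 12, []), ([3], 14, []), ([4], 15, []), ([4], 16, []), ([4], 17, []), ([4], 18, []), ([5], 5, []), ([5], 19, []), ([5], 20, []), ([5], 21, []), ([5], 22, []), ([5], 23, []), ([6], 6, []), ([6], 24, []), ([6], 25, []), ([6], 26, []), ([6], 27, []), ([6], 28, []), ([6], 29, []), ([7], 31, []), ([7], 32, []), ([7], 33, []), ([7], 34, []), ([7], 36, []), ([8], 37, []), ([8], 38, []), ([8], 39, []), ([8], 40, []), ([8], 41, []), ([8], 42, []), ([8], 44, []), ([1], 0, []), ([2], 0, []), ([2], 9, []), ([3], 0, []), ([3], 9, []), ([3], 10, []), ([4], 0, []), ([4], 1, []), ([4], 9, []), ([4], 2, []), ([4], 11, []), ([4], 12, []), ([5], 12, []), ([5], 13, [])],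
    fus := [⟨[[5], [0], [1, 2, 3], [1, 2], [4], [4, 7], [6], [8]], [[0, 5, 7], [0], [3, 6, 8], [1, 2, 4, 7, 8], [7], [4, 7], [4, 6, 7, 8], [8]], [([0, 0], [4, 5]), ([1, 1], [5]), ([2, 2], []), ([3, 3], []), ([4, 4], []), ([5, 5], []), ([6, 6], [7]), ([7, 7], []), ([2, 0], [0, 2, 4, 5, 6, 7]), ([2, 1], [1, 2, 5, 6, 7]), ([3, 0], [0, 3, 6])]⟩,
      ⟨[[0], [4, 7], [2, 3], [2], [4, 5, 7], [6], [7], [7, 8]], [[0, 4, 5, 6, 7], [4, 8], [2, 7, 8], [3, 7, 8], [6, 7, 8], [4, 5, 6], [8], [7]], [([0, 0], [1]), ([1, 1], []), ([2, 2], []), ([3, 3], []), ([4, 4], [6]), ([5, 5], [6, 7]), ([6, 6], []), ([7, 7], []), ([2, 0], [0, 2, 4, 5, 6, 7]), ([3, 0], [0, 3, 4, 6]), ([3, 1], [1, 3, 6])]⟩,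
      ⟨[[4], [2, 5], [1, 2, 3], [1, 2], [7], [3, 6, 8], [8]], [[1, 2, 6, 8], [1, 6, 8], [1, 2, 4, 6, 7, 8], [3, 6, 7, 8], [3, 7, 8], [3, 8], [8]], [([0, 0], []), ([1, 1], [4]), ([2, 2], []), ([3, 3], []), ([4, 4], []), ([5, 5], []), ([6, 6], []), ([1, 0], [0, 1, 4]), ([2, 1], [1, 2, 5, 6]), ([3, 0], [0, 3, 6])]⟩],
    eqs := [eqs2_0, eqs2_1, eqs2_2, eqs2_3, eqs2_4, eqs2_5, eqs2_6, eqs2_7, eqs2_8, eqs2_9, eqs2_10, eqs2_11, eqs2_12, eqs2_13, eqs2_14, eqs2_15, eqs2_16, eqs2_17, eqs2_18, eqs2_19, eqs2_20, eqs2_21, eqs2_22, eqs2_23, eqs2_24, eqs2_25, eqs2_26, eqs2_27, eqs2_28, eqs2_29, eqs2_30, eqs2_31, eqs2_32, eqs2_33, eqs2_34, eqs2_35, eqs2_36, eqs2_37, eqs2_38, eqs2_39, eqs2_40, eqs2_41, eqs2_42, eqs2_43, eqs2_44, eqs2_45, eqs2_46, eqs2_47, eqs2_48, eqs2_49, eqs2_50, eqs2_51, eqs2_52, eqs2_53, eqs2_54, eqs2_55, eqs2_56, eqs2_57, eqs2_58, eqs2_59, eqs2_60, eqs2_61, eqs2_62, eqs2_63, eqs2_64, eqs2_65, eqs2_66, eqs2_67, eqs2_68, eqs2_69, eqs2_70, eqs2_71, eqs2_72, eqs2_73, eqs2_74, eqs2_75, eqs2_76, eqs2_77, eqs2_78, eqs2_79, eqs2_80, eqs2_81],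
    lam := [[], [], [], [(-1, 11)], [(1, 9), (-1, 10)], [(-1, 9)], [(-1, 12)], [(-1, 5), (-2, 9)], [(-1, 6), (-2, 12)]],
    gen := [(-1, 5), (-2, 9), (1, 22)], b := 2, m := 25153114898175,
    genC := [(-145993201829817, 0), (226602658115985, 2), (71142821111349, 3), (-8122661853495, 5), (-78713365752045, 7), (144291768664005, 8), (-25402339065840, 9), (-100943806060965, 10), (334097678854758, 11), (107597988917367, 12), (-74379334087845, 13), (-19246850725572, 14), (18680794920480, 15), (-11412488127735, 16), (278659965856545, 17), (-63789339083595, 18), (-39991110547590, 19), (22787536701285, 20), (-3511538540715, 21), (42049164788520, 22), (-84504451470615, 23), (78713365752045, 24), (27745193126226, 25), (-97989363912615, 26), (-78713365752045, 27), (-124441321155855, 28), (157177471446135, 36), (58018506388599, 37), (-51423844786695, 38), (-124624236018840, 39), (79982221095180, 40), (259977297330, 41), (-39157681253961, 42), (39991110547590, 43), (27206564547825, 44), (-33039832655940, 45), (13924210256235, 46), (38099511483870, 47), (9750943164375, 48), (29576599787025, 49), (13210072576800, 54), (-1477221074175, 55), (2954442148350, 56), (26420145153600, 58), (-29374587301950,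 59), (8863326445050, 60), (-3712810622400, 65), (-9707452773150, 66), (-5930744141850, 67), (-14561179159725, 68), (-19414905546300, 69), (11989284301500, 70), (8984396356650, 71)],
    targets := [tgt2_3, tgt2_4, tgt2_5, tgt2_6, tgt2_7, tgt2_8, tgt2_9, tgt2_10, tgt2_11, tgt2_12, tgt2_13, tgt2_14, tgt2_15, tgt2_16, tgt2_17, tgt2_18, tgt2_19, tgt2_20, tgt2_21, tgt2_22, tgt2_23, tgt2_24, tgt2_25, tgt2_26, tgt2_27, tgt2_28, tgt2_29, tgt2_30, tgt2_31, tgt2_32, tgt2_33, tgt2_34, tgt2_35, tgt2_36, tgt2_37, tgt2_38, tgt2_39, tgt2_40, tgt2_41, tgt2_42, tgt2_43, tgt2_44] }

/-- The generators as numbers. -/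
def kk2 : List ℕ := [0xc72a64b9b89cbd6969ab6bb7193b66e1d37796efc4910a2c1931e3407f7b06186f9622365d316a6a2c98a0a4eb0429e956a2b8e1e4b5d5549e8d8993f617d5486904e56b44132838283124868a1e003911610a900c30082, 0xb572b58bf869ceab52960c542ed1b7671de9f5c9a8127a24c0ed960b283dec09ac01a37405a196e98b080cc881b66e50421b0489c52102ab7888c3848565482eed6cb7cd4ec324fc5318a38faf049d0ae4a323c65524d00, 0xc73add8bf5685cc346960af4ef54ad66d5d9f89fa854d949c4a79a2786b8c329af90bc487d6196f28b455f018976709039352e4cc88763bb4689ead751934836adc4160d4214244c1101038086142c18f0e302951244680, 0xa93a860bf5add7bb46cd8b97a9e3ab4ad619f8891c42545a84a9a10287141c0266d53c026842d6e11aae18c98970cd1c0f3ef4548231a38d468a5995674f4c7ce9009605a5147f35390583923392a4c390abc3b68311d80, 0xc7160ccbf26b394ec1a9c5975b1b434a89d44ba6e0891af40852b14b871f0c87ef932348eae385f56ca562a19da6f396d75660f32b6f5a3b793e99934a6858a87d02a2e58494264858c0a38690220ca8710007821410086, 0xc73234287869b13c7d02e6e86dd47ab5d5644a1fc7bd120e2912f049bf025459af8ea3765d9d2b89ccd858d2b9a72c8b2fa354c255340e24793d33560aaece376acb656e018e244c20718506880444506003c8091654085, 0x1a1c5061c265477a7ecafc51a9bb8859d619f70900082ca900a44402283c18c26064bc365e12d9885aac80ce41ac0e5c45a3768314d7abd4468a5a060760b74968cd6574adc37f34c285d7df3254a53b44b627363d5719c,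 0xc71e5c0bf19ed754c1ab2b898f543a58ba19e966c8c32654cc57a14187162607efaebc76ad62d62a6cae5f61bda66d1c39756db1c315a724468a81935569a8367d027a348594264848010386862a1088f0a3038a040c090, 0x7c954d8be9c58592c2ce00e4621b0548b8a9f1e69c6caada89c61a5586b8f327f8cabc48ac7b8012dac5190085a0d09688752b0c8bc2713b468822035041cca87ccc6a259e94264ab3172380b3bb4132caebee213b4c6b7]

/-- Their words. -/
def kw2 : List (List Bool) := [[false, false, false, false, false, true, false, false, false, false, false, false, false, true, false, false, false, true, false, false, false, false, false, false, false, true, false, false, false, false, false, false, false, false, true, false, false, false, true, false, false, false, false, false, false, false, false, false, true, false, false, false, false, false, false, false, false, false, false, false, false, false, true, false, true, false, true, false, false, false, true, false, false, false, false, false, true, false, false, false, false, true, false, false, false, false, false, false, false, false, false, true, false, false, false, false, false, false, false, false, false, true, false, false, false, false, false, false, true, false, false, false, false, false, false, false,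 false, true, false, false, false, false, false, false, false, false, false, false, true, false, false, false, false, false, false, false, false, false, true, false, false, false, false, true, false, true, false, false, false, false, false, false, false, false, false, true, false, true, false, true, false, false, false, true, false, false, false, false, false, true, false, false, false, false, true, false, false, false, false, false, false, false, false, false, true, false, false, false, false, false, false, false, false, false, false, false, false, false, false, true, false, false, false, false, false, false, false, true, false, false, false, true, false, false, false, false, false, false, false, true, false, false, false, false, false, false, false, false, true, false, false, false, true, false, false, false, false, false, false, false, false, false, true, false, false, false, false, false, false, false], [false, false, false, false, false, false, true, false, true, false, true, false, false, false, true, false, false, false, false, false, true, false, false, false, false, true, false, false, false, false, false, false, false, false, false, true, false, false, false, false, false, false,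 false, false, false, false, false, false, false, false, false, true, false, true, false, true, false, false, false, true, false, false, false, false, false, true, false, false, false, false, true, false, false, false, false, false, false, false, false, false, true, false, false, false, false, false, false, false, false, false, false, false, false, false, false, true, false, false, false, false, false, false, false, true, false, false, false, true, false, false, false, false, false, false, false, true, false, false, false, false, false, false, false, false, true, false, false, false, true, false, false, false, false, false, false, false, false, false, true, false, false, false, false, false, false, false, false, false, false, false, false, false, true, false, true, false, true, false, false, false, true, false, false, false, false, false, true, false, false, false, false, true, false, false, false, false, false, false, false, false, false, true, false, false, false, false, false, false, false, false, false], [true, false, false, false, false, false, false, true, false, false, false, false, false, false, false, false, true, false, false, false, false, false, false, false, false, false,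 false, true, false, false, false, false, false, false, false, false, false, true, false, false, false, false, true, false, true, false, false, false, false, false, false, false, false, true, false, false, false, false, false, false, false, true, false, false, false, true, false, false, false, false, false, false, false, true, false, false, false, false, false, false, false, false, true, false, false, false, true, false, false, false, false, false, false, false, false, false, true, false, false, false, false, false, false, false, false, false, false, false, false, false, true, false, true, false, true, false, false, false, true, false, false, false, false, false, true, false, false, false, false, true, false, false, false, false, false, false, false, false, false, true, false, false, false, false, false, false, false, false, false, false, false, false, false, false, false, true, false, true, false, true, false, false, false, true, false, false, false, false, false, true, false, false, false, false, true, false, false, false, false, false, false, false, false, false, true, false, false, false, false, false, false, false, false, false, false, false, false, false, false, true, false, false,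 false, false, false, false, false, true, false, false, false, true, false, false, false, false, false, false, false, true, false, false, false, false, false, false, false, false, true, false, false, false, true, false, false, false, false, false, false, false, false, false, true, false, false, false, false, false, false, false, false, false, false, false, false, false, true, false, true, false, true, false, false, false, true, false, false, false, false, false, true, false, false, false, false, true, false, false, false, false, false, false, false, false, false, true, false, false, false, false, false, false, false, false, false, false, false, false, false, false, true, false, false, false, false, false, false, false, true, false, false, false, true, false, false, false, false, false, false, false, true, false, false, false, false, false, false, false, false, true, false, false, false, true, false, false, false, false, false, false, false, false, false, true, false, false, false, false, false, false, false, false, false, false, false, false, false, true, false, true, false, true, false, false, false, true, false, false, false, false, false, true, false, false, false, false, true, false,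 false, false, false, false, false, false, false, false, true, false, false, false, false, false, false, false, false, false], [false, false, false, false, false, false, true, false, true, false, true, false, false, false, true, false, false, false, false, false, true, false, false, false, false, true, false, false, false, false, false, false, false, false, false, true, false, false, false, false, false, false, false, false, false, true, false, false, false, false, false, false, true, false, false, false, false, false, false, false, false, true, false, false, false, false, false, false, false, false, false, false, true, false, false, false, false, false, false, false, false, false, true, false, false, false, false, true, false, true, false, false, false, false, false, false, false, false, true, false, false, false, false, false, false, false, true, false, false, false, true, false, false, false, false, false, false, false, true, false, false, false, false, false, false, false, false, true, false, false, false, true, false, false, false, false, false, false, false, false, false, true, false, false, false, false, false, false, false, false, false, false, false, false, false, true, false,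 true, false, true, false, false, false, true, false, false, false, false, false, true, false, false, false, false, true, false, false, false, false, false, false, false, false, false, true, false, false, false, false, false, false, false, false, false, false, false, false, false, false, true, false, false, false, false, false, false, false, true, false, false, false, true, false, false, false, false, false, false, false, true, false, false, false, false, false, false, false, false, true, false, false, false, true, false, false, false, false, false, false, false, false, false, true, false, false, false, false, false, false, false, true, false, false, false, false, false, false, true, false, false, false, false, false, false, false, false, true, false, false, false, false, false, false, false, false, false, false, true, false, false, false, false, false, false, false, false, false, true, false, false, false, false, true, false, true, false, false, false], [true, false, false, false, false, false, false, true, false, false, false, false, false, false, false, false, true, false, false, false, false, false, false, false, false, false, false, true, false, false, false, false, false, false,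 false, false, false, true, false, false, false, false, true, false, true, false, false, false, true, false, false, false, false, false, false, true, false, false, false, false, false, false, false, false, true, false, false, false, false, false, false, false, false, false, false, true, false, false, false, false, false, false, false, false, false, true, false, false, false, false, true, false, true, false, false, false, true, false, false, false, false, false, false, true, false, false, false, false, false, false, false, false, true, false, false, false, false, false, false, false, false, false, false, true, false, false, false, false, false, false, false, false, false, true, false, false, false, false, true, false, true, false, false, false, false, false, false, false, false, true, false, false, false, false, false, false, false, true, false, false, false, true, false, false, false, false, false, false, false, true, false, false, false, false, false, false, false, false, true, false, false, false, true, false, false, false, false, false, false, false, false, false, true, false, false, false, false, false, false, false, true, false, false, false, false, false, false, true, false, false,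 false, false, false, false, false, false, true, false, false, false, false, false, false, false, false, false, false, true, false, false, false, false, false, false, false, false, false, true, false, false, false, false, true, false, true, false, false, false, false, false, false, false, false, true, false, false, false, false, false, false, false, true, false, false, false, true, false, false, false, false, false, false, false, true, false, false, false, false, false, false, false, false, true, false, false, false, true, false, false, false, false, false, false, false, false, false, true, false, false, false, false, false, false, false], [true, false, false, false, false, false, false, true, false, false, false, false, false, false, false, false, true, false, false, false, false, false, false, false, false, false, false, true, false, false, false, false, false, false, false, false, false, true, false, false, false, false, true, false, true, false, false, false, true, false, false, false, false, false, false, true, false, false, false, false, false, false, false, false, true, false, false, false, false, false, false, false, false, false, false, true, false, false, false, false, false,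 false, false, false, false, true, false, false, false, false, true, false, true, false, false, false, false, false, false, false, false, true, false, false, false, false, false, false, false, true, false, false, false, true, false, false, false, false, false, false, false, true, false, false, false, false, false, false, false, false, true, false, false, false, true, false, false, false, false, false, false, false, false, false, true, false, false, false, false, false, false, false, true, false, false, false, false, false, false, true, false, false, false, false, false, false, false, false, true, false, false, false, false, false, false, false, false, false, false, true, false, false, false, false, false, false, false, false, false, true, false, false, false, false, true, false, true, false, false, false, true, false, false, false, false, false, false, true, false, false, false, false, false, false, false, false, true, false, false, false, false, false, false, false, false, false, false, true, false, false, false, false, false, false, false, false, false, true, false, false, false, false, true, false, true, false, false, false, false, false, false, false, false, true, false, false, false,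 false, false, false, false, true, false, false, false, true, false, false, false, false, false, false, false, true, false, false, false, false, false, false, false, false, true, false, false, false, true, false, false, false, false, false, false, false, false, false, true, false, false, false, false, false, false, false, false, false, false, false, false, false, true, false, true, false, true, false, false, false, true, false, false, false, false, false, true, false, false, false, false, true, false, false, false, false, false, false, false, false, false, true, false, false, false, false, false, false, false, false, false, false, false, false, false, false, false, true, false, true, false, true, false, false, false, true, false, false, false, false, false, true, false, false, false, false, true, false, false, false, false, false, false, false, false, false, true, false, false, false, false, false, false, false, false, false], [true, false, false, false, false, false, false, true, false, false, false, false, false, false, false, false, true, false, false, false, false, false, false, false, false, false, false, true, false, false, false, false, false, false, false, false, false, true, false,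 false, false, false, true, false, true, false, false, false, false, false, false, false, false, true, false, false, false, false, false, false, false, true, false, false, false, true, false, false, false, false, false, false, false, true, false, false, false, false, false, false, false, false, true, false, false, false, true, false, false, false, false, false, false, false, false, false, true, false, false, false, false, false, false, false, true, false, false, false, false, false, false, true, false, false, false, false, false, false, false, false, true, false, false, false, false, false, false, false, false, false, false, true, false, false, false, false, false, false, false, false, false, true, false, false, false, false, true, false, true, false, false, false, false, false, false, false, false, true, false, false, false, false, false, false, false, true, false, false, false, true, false, false, false, false, false, false, false, true, false, false, false, false, false, false, false, false, true, false, false, false, true, false, false, false, false, false, false, false, false, false, true, false, false, false, false, false, false, false, false, false, false, false, false, false, true,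 false, true, false, true, false, false, false, true, false, false, false, false, false, true, false, false, false, false, true, false, false, false, false, false, false, false, false, false, true, false, false, false, false, false, false, false, false, false, false, false, false, false, false, false, true, false, true, false, true, false, false, false, true, false, false, false, false, false, true, false, false, false, false, true, false, false, false, false, false, false, false, false, false, true, false, false, false, false, false, false, false, false, false], [true, false, false, false, false, false, false, true, false, false, false, false, false, false, false, false, true, false, false, false, false, false, false, false, false, false, false, true, false, false, false, false, false, false, false, false, false, true, false, false, false, false, true, false, true, false, false, false, false, false, false, false, false, true, false, false, false, false, false, false, false, true, false, false, false, true, false, false, false, false, false, false, false, true, false, false, false, false, false, false, false, false, true, false, false, false, true, false, false, false, false, false, false,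 false, false, false, true, false, false, false, false, false, false, false, true, false, false, false, false, false, false, true, false, false, false, false, false, false, false, false, true, false, false, false, false, false, false, false, false, false, false, true, false, false, false, false, false, false, false, false, false, true, false, false, false, false, true, false, true, false, false, false, false, false, false, false, false, true, false, false, false, false, false, false, false, true, false, false, false, true, false, false, false, false, false, false, false, true, false, false, false, false, false, false, false, false, true, false, false, false, true, false, false, false, false, false, false, false, false, false, true, false, false, false, false, false, false, false, false, false, false, false, false, false, true, false, true, false, true, false, false, false, true, false, false, false, false, false, true, false, false, false, false, true, false, false, false, false, false, false, false, false, false, true, false, false, false, false, false, false, false, false, false, false, false, false, false, false, false, true, false, true, false, true, false, false, false, true, false,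 false, false, false, false, true, false, false, false, false, true, false, false, false, false, false, false, false, false, false, true, false, false, false, false, false, false, false, false, false, false, false, false, false, false, false, true, false, true, false, true, false, false, false, true, false, false, false, false, false, true, false, false, false, false, true, false, false, false, false, false, false, false, false, false, true, false, false, false, false, false, false, false, false, false, false, false, false, false, false, false, true, false, true, false, true, false, false, false, true, false, false, false, false, false, true, false, false, false, false, true, false, false, false, false, false, false, false, false, false, true, false, false, false, false, false, false, false, false, false], [false, false, false, false, false, false, true, false, true, false, true, false, false, false, true, false, false, false, false, false, true, false, false, false, false, true, false, false, false, false, false, false, false, false, false, true, false, false, false, false, false, false, false, false, false, false, false, false, false, false, false, true, false, true, false, true, false,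 false, false, true, false, false, false, false, false, true, false, false, false, false, true, false, false, false, false, false, false, false, false, false, true, false, false, false, false, false, false, false, false, false, false, false, false, false, false, false, true, false, true, false, true, false, false, false, true, false, false, false, false, false, true, false, false, false, false, true, false, false, false, false, false, false, false, false, false, true, false, false, false, false, false, false, false, false, false, false, false, false, false, false, false, true, false, true, false, true, false, false, false, true, false, false, false, false, false, true, false, false, false, false, true, false, false, false, false, false, false, false, false, false, true, false, false, false, false, false, false, false, false, false]]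

/-- The fusing elements as numbers. -/
def gk2 : List ℕ := [0x2140032444c254c69a9d689d997388cdb270e47020c544841e2c38c282080a2635516569274f52becd7ab40f1f6cb112e76f5ba1ad6ee3aa4b541960c6c53a36905da8f25437f7ef418f35f448d024c28b2f148c1331e1, 0x712230028f620f22ed831732e4a0145c69d4532686302532f505602a86ca53724b6aa3b2f82abc57ad5868412a48b81d5cc75938c16d8e35793c19aa96e833326cfdd034608e7e4d4c7af7cb423c0b08710b9653088694e, 0xc52c3154150684575cb3dc36a00f904e13779427911869d4614f81b2715705b8695d8e8e160b5bcce91dbb244879512cd3b87d7983745b4ebe8c84d696265673149635cfd22d28898263c6440b0200b8252a90b138a1627]

/-- Their words. -/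
def gw2 : List (List Bool) := [[false, true, false, true, true, true, true, true, false, true, false, true, true, true, true, true, true, false, false, false, false, true, true, false, true, false, false, true, true, false, false, false, true, false, true, false, false, true, false, false, false, false, false, false, true, false, false, false, false, false, false, false, false, true, false, false, false, false, false, false, false, false, false, false, true, false, false, false, false, false, false, false, false, false, true, false, false, false, false, true, false, true, false, false, false, true, false, false, false, false, false, false, true, false, false, false, false, false, false, false, false, true, false, false, false, false, false, false, false, false, false, false, true, false, false, false, false, false, false, false, false, false, true, false, false, false, false, true, false, true, false, false, false, false, false, false, false, false, false, true, false, true, false, true, false, false, false, true, false, false, false, false, false, true, false, false, false, false, true, false, false, false, false, false, false, false, false, false, true, false, false, false, false, false,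 false, false, false, false, false, false, false, false, false, false, true, false, true, false, true, false, false, false, true, false, false, false, false, false, true, false, false, false, false, true, false, false, false, false, false, false, false, false, false, true, false, false, false, false, false, false, false, false, false, false, false, false, false, false, false, true, false, true, false, true, false, false, false, true, false, false, false, false, false, true, false, false, false, false, true, false, false, false, false, false, false, false, false, false, true, false, false, false, false, false, false, false, false, false, false, false, false, false, false, false, true, false, true, false, true, false, false, false, true, false, false, false, false, false, true, false, false, false, false, true, false, false, false, false, false, false, false, false, false, true, false, false, false, false, false, false, false, false, false, false, false, false, false, false, false, false, false, false, false, false, false, false, false, false, false, false, false, false, false, true, false, false, false, false, false, false, false, false, false, false, true, false, false, false, false, false,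 false, false, false, false, false, false, false, false, false, false, false, false, false, false, false, false, false, false, false, false, false, false, false, false, false, true, true, false, false, false, false, false, false, false, false, false, false, false, false, false, false, false, false, false, false, false, false, true, false, false, false, false, false, false, false, false, false, false, true, true, false, false, false, false, false, false, false, false, false, false, false, false, false, false, false, false, false, false, false, false, false, false, false, false, false, false, false, false, false, false, false, false, false, false, false, false, false, false, false, false, true, true, true, true, true, true, false, false, false, false, false, false, false, false, false, false, true, false, false, false, false, false, false, false, false, false, false, true, true, true, true, true, false, false, false, false, false, false, false, false, false, false, true, false, false, false, false, false, false, false, false, false, false, true, false, false, false, false, false, false, true, false, false, false, false, false, false, false, false, true, false, false, false, false, false,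 false, false, false, false, false, true, false, false, false, false, false, false, false, false, false, true, false, false, false, false, true, false, true, false, false, false, true, false, false, false, false, false, false, true, false, false, false, false, false, false, false, false, true, false, false, false, false, false, false, false, false, false, false, true, false, false, false, false, false, false, false, false, false, true, false, false, false, false, true, false, true, false, false, false, false, false, false, false, false, false, true, false, true, false, true, false, false, false, true, false, false, false, false, false, true, false, false, false, false, true, false, false, false, false, false, false, false, false, false, true, false, false, false, false, false, false, false, false, false, false, false, false, false, false, false, true, false, true, false, true, false, false, false, true, false, false, false, false, false, true, false, false, false, false, true, false, false, false, false, false, false, false, false, false, true, false, false, false, false, false, false, false, false, false, false, false, false, false, false, false, true, false, true, false, true, false,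 false, false, true, false, false, false, false, false, true, false, false, false, false, true, false, false, false, false, false, false, false, false, false, true, false, false, false, false, false, false, false, false, false, false, false, false, false, false, false, true, false, true, false, true, false, false, false, true, false, false, false, false, false, true, false, false, false, false, true, false, false, false, false, false, false, false, false, false, true, false, false, false, false, false, false, false, false, false, false, true, false, true, true, true, true, true, false, true, false, true, true, true, true, true, true, false, false, false, false, true, true, false, true, false, false, true, true, false, false, false, true, false, true, false, false], [false, false, false, false, false, false, true, false, false, false, false, false, false, true, false, true, true, true, true, false, true, true, true, true, false, true, true, false, false, false, false, false, false, true, false, false, false, false, false, false, false, false, true, false, false, false, false, false, false, false, false, false, false, true, false, false, false, false, false, false, false, false, false, true,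 false, false, false, false, true, false, true, false, false, false, true, false, false, false, false, false, false, true, false, false, false, false, false, false, false, false, true, false, false, false, false, false, false, false, false, false, false, true, false, false, false, false, false, false, false, false, false, true, false, false, false, false, true, false, true, false, false, false, true, false, false, false, false, false, false, true, false, false, false, false, false, false, false, false, true, false, false, false, false, false, false, false, false, false, false, true, false, false, false, false, false, false, false, false, false, true, false, false, false, false, true, false, true, false, false, false, false, false, false, false, false, true, false, false, false, false, false, false, false, true, false, false, false, true, false, false, false, false, false, false, false, true, false, false, false, false, false, false, false, false, true, false, false, false, true, false, false, false, false, false, false, false, false, false, true, false, false, false, false, false, false, false, true, false, false, false, false, false, false, true, false, false, false, false, false, false,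 false, false, true, false, false, false, false, false, false, false, false, false, false, true, false, false, false, false, false, false, false, false, false, true, false, false, false, false, true, false, true, false, false, false, false, false, false, false, false, true, false, false, false, false, false, false, false, true, false, false, false, true, false, false, false, false, false, false, false, true, false, false, false, false, false, false, false, false, true, false, false, false, true, false, false, false, false, false, false, false, false, false, true, false, false, false, false, false, false, false, true, false, false, false, false, false, false, false, false, false, false, true, true, true, true, false, false, false, false, false, false, false, false, false, false, true, true, true, true, false, false, false, false, false, false, false, false, false, false, true, false, false, false, false, false, false, false, false, false, false, false, false, false, false, false, false, false, false, false, false, false, false, false, false, false, false, false, false, false, false, false, false, false, false, false, false, false, false, false, false, false, false, false, false, false,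 false, false, false, false, false, false, false, false, false, false, false, false, false, false, false, true, false, false, false, false, false, false, false, false, false, false, false, false, false, false, false, false, false, false, false, false, false, false, false, false, false, false, false, false, false, false, false, false, false, false, false, false, false, false, false, false, false, false, false, false, false, false, false, false, false, false, false, false, false, false, false, false, false, false, false, false, true, false, false, false, false, false, false, true, false, false, false, false, false, false, false, false, true, false, false, false, false, false, false, false, false, false, false, true, false, false, false, false, false, false, false, false, false, true, false, false, false, false, true, false, true, false, false, false, true, false, false, false, false, false, false, true, false, false, false, false, false, false, false, false, true, false, false, false, false, false, false, false, false, false, false, true, false, false, false, false, false, false, false, false, false, true, false, false, false, false, true, false, true, false, false, false, true, false, false,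 false, false, false, false, true, false, false, false, false, false, false, false, false, true, false, false, false, false, false, false, false, false, false, false, true, false, false, false, false, false, false, false, false, false, true, false, false, false, false, true, false, true, false, false, false, false, false, false, false, false, true, false, false, false, false, false, false, false, true, false, false, false, true, false, false, false, false, false, false, false, true, false, false, false, false, false, false, false, false, true, false, false, false, true, false, false, false, false, false, false, false, false, false, true, false, false, false, false, false, false, false, true, false, false, false, false, false, false, true, false, false, false, false, false, false, false, false, true, false, false, false, false, false, false, false, false, false, false, true, false, false, false, false, false, false, false, false, false, true, false, false, false, false, true, false, true, false, false, false, false, false, false, false, false, true, false, false, false, false, false, false, false, true, false, false, false, true, false, false, false, false, false, false, false, true, false,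 false, false, false, false, false, false, false, true, false, false, false, true, false, false, false, false, false, false, false, false, false, true, false, false, false, false, false, false, false, false, false, false, false, false, false, true, false, false, false, false, false, false, true, false, true, true, true, true, false, true, true, true, true, false, true], [true, false, true, false, true, false, false, false, true, false, true, false, false, false, true, true, true, false, true, true, false, false, true, true, true, false, false, false, false, false, false, false, true, false, true, false, true, false, false, false, true, false, false, false, false, false, true, false, false, false, false, true, false, false, false, false, false, false, false, false, false, true, false, false, false, false, false, false, false, false, false, false, false, false, false, false, false, true, false, true, false, true, false, false, false, true, false, false, false, false, false, true, false, false, false, false, true, false, false, false, false, false, false, false, false, false, true, false, false, false, false, false, false, false, false, false, false, false, false, false, false, false, true,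 false, true, false, true, false, false, false, true, false, false, false, false, false, true, false, false, false, false, true, false, false, false, false, false, false, false, false, false, true, false, false, false, false, false, false, false, false, false, false, false, false, false, false, false, true, false, true, false, true, false, false, false, true, false, false, false, false, false, true, false, false, false, false, true, false, false, false, false, false, false, false, false, false, true, false, false, false, false, false, false, false, false, false, false, false, false, false, false, false, false, false, false, false, true, true, true, false, false, false, false, false, false, false, false, false, false, false, false, false, false, false, false, false, false, false, false, true, true, false, false, false, false, false, false, false, false, false, false, true, true, true, false, false, false, false, false, false, false, false, false, false, false, false, false, false, false, false, false, false, false, false, false, false, false, false, false, false, false, false, false, false, true, false, false, false, false, false, false, false, false, false, false, true, false, false, false,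 false, false, false, false, false, false, false, false, false, false, false, false, false, false, false, false, false, false, false, false, false, false, false, false, false, false, false, true, false, false, false, false, false, false, false, false, false, false, true, false, false, false, false, false, false, false, false, false, false, true, false, false, false, false, false, false, true, false, true, false, true, false, false, false, true, false, false, false, false, false, true, false, false, false, false, true, false, false, false, false, false, false, false, false, false, true, false, false, false, false, false, false, false, false, false, false, false, false, false, false, false, true, false, true, false, true, false, false, false, true, false, false, false, false, false, true, false, false, false, false, true, false, false, false, false, false, false, false, false, false, true, false, false, false, false, false, false, false, false, false, false, false, false, false, false, false, true, false, true, false, true, false, false, false, true, false, false, false, false, false, true, false, false, false, false, true, false, false, false, false, false, false, false, false, false, true,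 false, false, false, false, false, false, false, false, false, false, false, false, false, false, false, true, false, true, false, true, false, false, false, true, false, false, false, false, false, true, false, false, false, false, true, false, false, false, false, false, false, false, false, false, true, false, false, false, false, false, false, false, false, false, true, false, true, false, true, false, false, false, true, false, true, false, false, false, true, true, true, false, true, true, false, false, true, true, true, false]]

/-- Part of the list of normal forms. -/
def words2_0 : List (List ℕ) := [[], [0], [0, 7], [0, 4], [5], [4], [5, 7], [4, 5, 7], [0, 4, 5], [0, 4, 7], [0, 5, 7], [4, 7], [4, 5], [7], [0, 4, 5, 7], [0, 5], [0, 2, 7, 8], [0, 2, 4, 7, 8], [0, 2, 4, 5, 7, 8], [2, 4, 5, 8], [2, 4, 7, 8], [2, 7, 8], [2, 4, 8], [2, 8], [2, 4, 5, 7, 8], [0, 2, 5, 8], [0, 2, 4, 8], [0, 2, 8], [0, 2, 4, 5, 8], [2, 5, 7, 8], [2, 5, 8], [0, 2, 5, 7, 8], [2], [0, 2], [0, 2, 7], [0, 2, 4, 7], [2, 5], [2, 4, 7], [2, 5, 7], [2, 4, 5], [0, 2, 4, 5, 7], [0, 2, 4], [0, 2, 5, 7], [2, 4], [2, 4, 5, 7], [2, 7], [0, 2, 4, 5], [0, 2, 5], [0, 7, 8], [0, 4, 8], [0, 4, 5, 8], [4, 5, 7, 8], [4, 8],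 [7, 8], [4, 7, 8], [8], [4, 5, 8], [0, 5, 8], [0, 4, 7, 8], [0, 8], [0, 4, 5, 7, 8], [5, 7, 8], [5, 8], [0, 5, 7, 8], [0, 1, 3], [0, 1, 2, 3, 7, 8], [0, 1, 3, 4, 7], [1, 3, 5, 6, 8], [1, 2, 3, 5, 6, 8], [1, 2, 3, 4, 5, 6, 8], [0, 1, 2, 3, 4, 7, 8], [1, 3, 4, 5, 6, 7, 8], [0, 1, 3, 4, 5, 7], [1, 3, 6, 7, 8], [0, 1, 3, 7], [0, 1, 2, 3, 4, 8], [0, 1, 2, 3, 4, 5, 7, 8], [1, 2, 3, 6, 7, 8], [0, 1, 3, 5], [1, 3, 4, 5, 6, 8], [1, 2, 3, 4, 6, 7, 8], [1, 2, 3, 4, 5, 6, 7, 8], [1, 3, 4, 6, 7, 8], [0, 1, 2, 3, 4, 5, 8], [1, 3, 6, 8], [0, 1, 3, 5, 7], [0, 1, 2, 3, 5, 8], [1, 2, 3, 6, 8], [0, 1, 3, 4], [0, 1, 2, 3, 8], [1, 3, 5, 6, 7, 8], [1, 3, 4, 6, 8], [0, 1, 2, 3, 5, 7, 8], [1, 2, 3, 5, 6, 7, 8], [0, 1, 3, 4, 5], [1, 2, 3, 4, 6, 8], [1], [0, 1], [0, 1, 2, 7, 8], [0, 1, 2, 4, 8], [1, 2, 4, 8], [0, 1, 4], [1, 4], [1, 2, 7, 8], [0, 1, 2, 4, 5, 7, 8], [0, 1, 7], [0, 1, 4, 7], [1, 5, 7], [0, 1, 4, 5, 7], [0, 1, 5, 7], [1, 4, 5, 7], [1, 4, 7], [1, 7], [1, 2, 4, 7, 8], [1, 2, 4, 5, 7, 8], [1, 2, 8], [1, 2, 4, 5, 8], [1, 4, 5], [0, 1, 4, 5], [1, 5], [0, 1, 5], [0, 1, 2, 5, 7, 8], [1, 2, 5, 8], [0, 1, 2, 4, 7, 8], [0, 1, 2, 8], [0, 1, 2, 5, 8], [0, 1, 2, 4, 5, 8], [1, 2, 5, 7, 8]]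

/-- Part of the list of normal forms. -/
def words2_1 : List (List ℕ) := [[0, 3], [0, 3, 7], [0, 2, 3, 4, 7, 8], [0, 2, 3, 4, 5, 8], [0, 2, 3, 4, 8], [0, 3, 5], [0, 2, 3, 4, 5, 7, 8], [0, 3, 5, 7], [3, 6, 8], [0, 2, 3, 7, 8], [0, 3, 4], [3, 5, 6, 8], [0, 3, 4, 5, 7], [3, 6, 7, 8], [2, 3, 4, 5, 6, 7, 8], [2, 3, 4, 6, 7, 8], [2, 3, 4, 5, 6, 8], [0, 2, 3, 5, 7, 8], [3, 4, 6, 7, 8], [3, 4, 5, 6, 7, 8], [3, 4, 5, 6, 8], [2, 3, 5, 6, 8], [2, 3, 6, 8], [2, 3, 6, 7, 8], [3, 5, 6, 7, 8], [0, 3, 4, 7], [0, 2, 3, 8], [0, 3, 4, 5], [2, 3, 4, 6, 8], [0, 2, 3, 5, 8], [3, 4, 6, 8], [2, 3, 5, 6, 7, 8], [1, 2], [0, 1, 2], [0, 1, 7, 8], [0, 1, 4, 7, 8], [1, 4, 7, 8], [0, 1, 2, 4, 7], [1, 2, 4, 7], [1, 7, 8], [0, 1, 4, 5, 8], [0, 1, 2, 7], [0, 1, 2, 4], [1, 2, 5, 7], [0, 1, 2, 4, 5], [0, 1, 2, 5, 7], [1, 2, 4, 5], [1, 2, 4], [1, 2, 7], [1, 4, 8], [1, 4, 5, 8], [1, 8], [1, 4, 5, 7, 8], [1, 2, 4, 5, 7], [0, 1, 2, 4, 5, 7], [1, 2, 5], [0, 1, 2, 5], [0, 1, 5, 7, 8], [1, 5, 8], [0, 1, 4, 8], [0, 1, 8], [0, 1, 5, 8], [0, 1, 4, 5, 7, 8], [1, 5, 7, 8], [2, 3], [2, 3, 5, 7], [3, 4, 8], [2, 3, 5], [3, 4, 5, 8], [3, 4, 7, 8], [3, 4, 5, 7, 8], [2, 3, 7], [0, 2, 3, 4, 5, 6, 8], [0, 3, 6, 7, 8], [0, 2, 3, 4, 5, 6, 7,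 8], [0, 2, 3, 4, 6, 7, 8], [0, 3, 5, 6, 8], [2, 3, 4, 5, 7], [2, 3, 4, 7], [3, 7, 8], [2, 3, 4], [0, 2, 3, 4, 6, 8], [3, 8], [2, 3, 4, 5], [0, 2, 3, 6, 8], [0, 2, 3, 6, 7, 8], [0, 3, 4, 5, 6, 8], [0, 2, 3, 5, 6, 8], [0, 2, 3, 5, 6, 7, 8], [0, 3, 4, 6, 8], [0, 3, 6, 8], [3, 5, 8], [0, 3, 5, 6, 7, 8], [3, 5, 7, 8], [0, 3, 4, 5, 6, 7, 8], [0, 3, 4, 6, 7, 8], [1, 2, 3], [1, 2, 3, 4], [0, 1, 3, 4, 5, 6, 7, 8], [0, 1, 2, 3, 5, 6, 8], [1, 3, 4, 8], [1, 3, 7, 8], [0, 1, 2, 3, 4, 5, 6, 8], [0, 1, 3, 5, 6, 8], [0, 1, 2, 3, 6, 7, 8], [1, 2, 3, 5], [0, 1, 2, 3, 4, 5, 6, 7, 8], [0, 1, 2, 3, 4, 6, 7, 8], [1, 3, 4, 5, 8], [1, 3, 4, 7, 8], [1, 2, 3, 7], [1, 2, 3, 4, 7], [1, 2, 3, 4, 5], [0, 1, 3, 4, 6, 8], [1, 3, 8], [0, 1, 2, 3, 5, 6, 7, 8], [0, 1, 3, 6, 8], [1, 2, 3, 4, 5, 7], [0, 1, 2, 3, 6, 8], [1, 3, 4, 5, 7, 8], [1, 2, 3, 5, 7], [0, 1, 2, 3, 4, 6, 8], [1, 3, 5, 7, 8], [0, 1, 3, 6, 7, 8], [0, 1, 3, 4, 5, 6, 8], [0, 1, 3, 5, 6, 7, 8], [0, 1, 3, 4, 6, 7, 8], [1, 3, 5, 8]]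

/-- Part of the list of normal forms. -/
def words2_2 : List (List ℕ) := [[1, 2, 5, 6, 8], [1, 5, 6, 8], [1, 2, 4, 5, 6, 7, 8], [0, 1, 4, 5, 6, 8], [0, 1, 5, 6, 8], [1, 4, 5, 6, 8], [0, 1, 2, 4, 5, 6, 7, 8], [0, 1, 2, 5, 6, 8], [1, 2, 6, 8], [0, 1, 6, 8], [0, 1, 2, 4, 5, 6, 8], [1, 6, 8], [0, 1, 2, 4, 6, 7, 8], [1, 4, 5, 6, 7, 8], [1, 2, 4, 6, 7, 8], [0, 1, 4, 6, 8], [1, 2, 4, 5, 6, 8], [0, 1, 5, 6, 7, 8], [1, 4, 6, 7, 8], [0, 1, 2, 6, 7, 8], [0, 1, 6, 7, 8], [1, 2, 6, 7, 8], [0, 1, 2, 4, 6, 8], [1, 6, 7, 8], [0, 1, 2, 6, 8], [0, 1, 4, 5, 6, 7, 8], [1, 2, 5, 6, 7, 8], [1, 4, 6, 8], [1, 5, 6, 7, 8], [0, 1, 2, 5, 6, 7, 8], [1, 2, 4, 6, 8], [0, 1, 4, 6, 7, 8], [1, 3], [1, 3, 4, 7], [0, 1, 2, 3, 4, 5, 6, 7], [0, 1, 3, 5, 6, 7], [1, 2, 3, 4, 7, 8], [1, 2, 3, 7, 8], [0, 1, 3, 4, 5, 6], [0, 1, 2, 3, 5, 6, 7], [0, 1, 3, 6], [1, 3, 5], [0, 1, 3, 4, 5, 6, 7], [0, 1, 3, 4, 6, 7], [1, 2, 3, 4, 5, 7, 8], [1, 2, 3, 4, 8], [1, 3, 7], [1, 3, 4], [1, 3, 4, 5, 7], [0, 1, 2, 3, 4, 6], [1, 2, 3, 8], [0, 1, 3, 5, 6], [0, 1, 2, 3, 6, 7], [1, 3, 4, 5], [0, 1, 3, 6, 7], [1, 2, 3, 4, 5, 8], [1, 3, 5, 7], [0, 1, 3, 4, 6], [1, 2, 3, 5, 7, 8], [0, 1, 2, 3, 6], [0, 1, 2, 3, 4, 5, 6], [0, 1, 2, 3, 5, 6], [0, 1, 2,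 3, 4, 6, 7], [1, 2, 3, 5, 8], [3], [3, 5, 7], [2, 3, 4, 7, 8], [3, 5], [2, 3, 4, 5, 7, 8], [2, 3, 4, 8], [2, 3, 4, 5, 8], [3, 7], [0, 3, 4, 5, 6], [0, 2, 3, 6], [0, 3, 4, 5, 6, 7], [0, 3, 4, 6, 7], [0, 2, 3, 5, 6, 7], [3, 4, 5], [3, 4], [2, 3, 7, 8], [3, 4, 7], [0, 3, 4, 6], [2, 3, 8], [3, 4, 5, 7], [0, 3, 6, 7], [0, 3, 6], [0, 2, 3, 4, 5, 6], [0, 3, 5, 6, 7], [0, 3, 5, 6], [0, 2, 3, 4, 6], [0, 2, 3, 6, 7], [2, 3, 5, 8], [0, 2, 3, 5, 6], [2, 3, 5, 7, 8], [0, 2, 3, 4, 5, 6, 7], [0, 2, 3, 4, 6, 7], [0, 2, 4, 5, 6, 7, 8], [2, 6, 7, 8], [0, 2, 6, 8], [2, 5, 6, 8], [0, 2, 4, 5, 6, 8], [2, 6, 8], [0, 2, 4, 6, 7, 8], [0, 2, 5, 6, 8], [2, 4, 5, 6, 8], [2, 4, 6, 7, 8], [2, 4, 5, 6, 7, 8], [0, 2, 4, 6, 8], [4, 6, 7, 8], [0, 6, 7, 8], [4, 5, 6, 8], [0, 6, 8], [4, 5, 6, 7, 8], [0, 4, 5, 6, 7, 8], [5, 6, 8], [6, 7, 8], [0, 5, 6, 8], [0, 5, 6, 7, 8], [0, 4, 6, 8], [6, 8], [2, 5, 6, 7, 8], [0, 2, 6, 7, 8], [2, 4, 6, 8], [0, 2, 5, 6, 7, 8], [0, 4, 5, 6, 8], [4, 6, 8], [0, 4, 6, 7, 8], [5, 6, 7, 8]]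

/-- Part of the list of normal forms. -/
def words2_3 : List (List ℕ) := [[0, 1, 2, 3], [0, 1, 3, 7, 8], [0, 1, 2, 3, 4], [1, 2, 3, 5, 6, 7], [1, 3, 5, 6, 7], [1, 3, 4, 5, 6], [0, 1, 3, 4, 8], [1, 2, 3, 4, 5, 6, 7], [0, 1, 2, 3, 4, 5], [1, 2, 3, 6], [0, 1, 2, 3, 7], [0, 1, 3, 4, 7, 8], [0, 1, 3, 4, 5, 8], [1, 3, 6], [0, 1, 2, 3, 5], [1, 2, 3, 4, 5, 6], [1, 3, 4, 6, 7], [1, 3, 4, 5, 6, 7], [1, 2, 3, 4, 6, 7], [0, 1, 3, 4, 5, 7, 8], [1, 2, 3, 6, 7], [0, 1, 2, 3, 5, 7], [0, 1, 3, 5, 8], [1, 3, 6, 7], [0, 1, 2, 3, 4, 7], [0, 1, 3, 8], [1, 2, 3, 5, 6], [1, 2, 3, 4, 6], [0, 1, 3, 5, 7, 8], [1, 3, 5, 6], [0, 1, 2, 3, 4, 5, 7], [1, 3, 4, 6], [0, 2, 3], [0, 2, 3, 7], [0, 3, 4, 8], [0, 3, 4, 5, 7, 8], [0, 3, 4, 7, 8], [0, 2, 3, 5], [0, 3, 4, 5, 8], [0, 2, 3, 5, 7], [2, 3, 6, 7], [0, 3, 7, 8], [0, 2, 3, 4, 7], [2, 3, 5, 6, 7], [0, 2, 3, 4, 5], [2, 3, 6], [3, 4, 5, 6, 7], [3, 4, 6, 7], [3, 4, 5, 6], [0, 3, 5, 7, 8], [2, 3, 4, 6, 7], [2, 3, 4, 5, 6, 7], [2, 3, 4, 5, 6], [3, 5, 6, 7], [3, 6, 7], [3, 6], [2, 3, 5, 6], [0, 2, 3, 4], [0, 3, 8], [0, 2, 3, 4, 5, 7], [3, 4, 6], [0, 3, 5, 8], [2, 3, 4, 6], [3, 5, 6], [1, 5, 6, 7], [1, 2, 5, 6, 7], [1, 4, 5, 6, 7], [0, 1, 2, 4, 5, 6], [0, 1, 2, 5, 6, 7],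 [1, 2, 4, 5, 6], [0, 1, 4, 5, 6, 7], [0, 1, 5, 6, 7], [1, 6, 7], [0, 1, 2, 6, 7], [0, 1, 4, 5, 6], [1, 2, 6, 7], [0, 1, 4, 6, 7], [1, 2, 4, 5, 6, 7], [1, 4, 6, 7], [0, 1, 2, 4, 6], [1, 4, 5, 6], [0, 1, 2, 5, 6], [1, 2, 4, 6, 7], [0, 1, 6], [0, 1, 2, 6], [1, 6], [0, 1, 4, 6], [1, 2, 6], [0, 1, 6, 7], [0, 1, 2, 4, 5, 6, 7], [1, 5, 6], [1, 2, 4, 6], [1, 2, 5, 6], [0, 1, 5, 6], [1, 4, 6], [0, 1, 2, 4, 6, 7], [0, 4, 5, 6, 7], [6], [0, 6, 7], [5, 6, 7], [0, 4, 5, 6], [6, 7], [0, 4, 6, 7], [0, 5, 6, 7], [4, 5, 6], [4, 6, 7], [4, 5, 6, 7], [0, 4, 6], [2, 4, 6, 7], [0, 2, 6], [2, 4, 5, 6], [0, 2, 6, 7], [2, 4, 5, 6, 7], [0, 2, 4, 5, 6, 7], [2, 5, 6, 7], [2, 6], [0, 2, 5, 6, 7], [0, 2, 5, 6], [0, 2, 4, 6], [2, 6, 7], [5, 6], [0, 6], [4, 6], [0, 5, 6], [0, 2, 4, 5, 6], [2, 4, 6], [0, 2, 4, 6, 7], [2, 5, 6]]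

/-- The normal forms, sorted by their images of the chosen points. -/
def words2 : List (List ℕ) := words2_0 ++ words2_1 ++ words2_2 ++ words2_3

/-- The chosen points. -/
def pts2 : List ℕ := [0, 1]

/-- The inner normal forms. -/
def words2in : List (List ℕ) := [[], [5], [4], [5, 7], [4, 5, 7], [4, 7], [4, 5], [7], [4, 5, 7, 8], [4, 8], [7, 8], [4, 7, 8], [8], [4, 5, 8], [5, 7, 8], [5, 8], [3, 6, 8], [3, 5, 6, 8], [3, 6, 7, 8], [3, 4, 6, 7, 8], [3, 4, 5, 6, 7, 8], [3, 4, 5, 6, 8], [3, 5, 6, 7, 8], [3, 4, 6, 8], [3, 4, 8], [3, 4, 5, 8], [3, 4, 7, 8], [3, 4, 5, 7, 8], [3, 7, 8], [3, 8], [3, 5, 8], [3, 5, 7, 8], [3], [3, 5, 7], [3, 5], [3, 7], [3, 4, 5], [3, 4], [3, 4, 7], [3, 4, 5, 7], [4, 6, 7, 8], [4, 5, 6, 8], [4, 5, 6, 7, 8], [5, 6, 8], [6, 7, 8], [6, 8], [4, 6, 8], [5, 6, 7, 8], [3, 4, 5, 6, 7], [3, 4, 6, 7], [3, 4, 5, 6], [3, 5, 6, 7], [3, 6, 7], [3, 6], [3, 4, 6], [3, 5, 6], [6], [5, 6, 7], [6, 7], [4, 5, 6], [4, 6, 7], [4, 5, 6, 7], [5, 6], [4, 6]]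

/-- The points for these. -/
def pts2in : List ℕ := [0, 1]

end CfsgLib.Schur.Sporadic.HS
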