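import Cfsg.Agent.Lib.Schur.TailsCert

/-!
Data for the 3-part of the multiplier of the Higman-Sims group.
-/

set_option autoImplicit false
set_option maxRecDepth 100000
set_option maxHeartbeats 0

namespace CfsgLib.Schur.Sporadic.HS

/-- An equation. -/
def eqs3_0 : CfsgLib.Schur.Tails.Form := [(-1, 2), (1, 1), (-1, 2), (-1, 2), (-1, 1)]

/-- An equation. -/
def eqs3_1 : CfsgLib.Schur.Tails.Form := [(1, 0), (1, 3), (1, 3), (1, 3), (-1, 0)]

/-- An equation. -/
def eqs3_2 : CfsgLib.Schur.Tails.Form := [(1, 2), (1, 2), (1, 0), (1, 2), (1, 2), (1, 1), (1, 2), (1, 2), (1, 0), (1, 1), (1, 4), (1, 4), (1, 4), (-1, 1)]

/-- An equation. -/
def eqs3_3 : CfsgLib.Schur.Tails.Form := [(1, 2), (1, 2), (1, 0), (-1, 0), (1, 4), (1, 3), (-1, 3), (-1, 4), (-1, 2)]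

/-- A combination. -/
def tgt3_2 : ℕ × ℤ × List (ℤ × ℕ) := (2, 0, [(1, 3)])

/-- The certificate. -/
def cert3 : CfsgLib.Schur.Tails.Cert :=
  { r := 2, a := 2, p := 3, fuel := 15, width := 2,
    rules := [([0, 0, 0], []), ([1, 1, 1], []), ([1, 0], [0, 1])],
    ix := [[0, 0], [2, 1]],
    ovl := [([1, 1], 2, [])],
    fus := [⟨[[0], [1]], [[0], [0, 0, 1, 1]], [([0, 0, 0], []), ([1, 1, 1], []), ([1, 0], [0, 1])]⟩],
    eqs := [eqs3_0, eqs3_1, eqs3_2, eqs3_3],
    lam := [[], []],
    gen := [], b := 1, m := 1,
    genC := [],
    targets := [tgt3_2] }

/-- The generators as numbers. -/
def kk3 : List ℕ := [0x3974a60233495b18b64d8bccd8cc869dc10175abb210542c8bf2dca9270535aaac02515484d3c6e05aae9d51f97a076018583c1204b0a924c6001996c79a23371542b7c88686a78a3af763a55c0e29ec69f86c897510f96, 0xc71e5608706fc6970224885362ccc4fdf49c379332433d49ba6e93afbace72d3465e972d712b06aa8f1daf51ca8b2d2d18588a838ab598a446dadbc76dd71cb14a8ab407c5952444985003838828284830c341041840781]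

/-- Their words. -/
def kw3 : List (List Bool) := [[true, true, true, true, true, true, true, true, true, false, false, true, true, true, false, false, true, false, true, true, true, true, true, true, true, true, true, true, false, false, true, true, true, false, false, true, false, true, true, true, true, true, true, true, true, true, true, false, false, true, true, true, false, false, true, false, true, true, true, true, true, true, true, true, true, true, false, false, true, true, true, false, false, true, false, true, true, true, true, true, true, true, true, true, true, false, false, true, true, true, false, false, true, false, true, true, true, true, true, true, true, true, true, true, false, false, true, true, true, false, false, true, false, true, true, true, true, true, true, true, true, true, true, false, false, true, true, true, false, false, true, false, true, true, true, true, true, true, true, true, true, true, false, false, true, true, true, false, false, true, false, true, true, true, true, true, true, true, true, true, true, false, false, true, true, true, false, false, true, false, true, true, true, true, true, true, true, true, true, true, false, false, true, true, true, false, false, true, false, true, false, false, false, false, false, false, false, false, false, false, false, false, false, false, false, false, false, false, false, false, false, false, false, false, false, false, false, false, false, false, true, false, false,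 false, false, false, false, false, false, false, false, true, false, false, false, false, false, false, false, false, false, false, true, false, false, false, false, false, false, false, false, false, false, false, false, false, false, false, false, false, false, false, false, true, true, true, true, true, true, true, true, true, false, false, true, true, true, false, false, true, false, true, true, true, true, true, true, true, true, true, true, false, false, true, true, true, false, false, true, false, true, true, true, true, true, true, true, true, true, true, false, false, true, true, true, false, false, true, false, true, true, true, true, true, true, true, true, true, true, false, false, true, true, true, false, false, true, false, true, true, true, true, true, true, true, true, true, true, false, false, true, true, true, false, false, true, false, true, false, false, true, false, true, false, true, false, false, false], [true, true, true, true, true, true, true, true, true, false, false, true, true, true, false, false, true, false, true, true, true, true, true, true, true, true, true, true, false, false, true, true, true, false, false, true, false, true, true, true, true, true, true, true, true, true, true, false, false, true, true, true, false, false, true, false, true, true, true, true, true, true, true, true, true, true, false, false, true, true, true, false, false, true, false, true, true, true, true, true, true, true, true, true, true,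 false, false, true, true, true, false, false, true, false, true, false, false, false, false, false, false, false, false, false, false, false, false, false, false, false, false, false, false, false, false, false, false, false, false, false, false, false, false, false, false, true, false, false, false, false, false, false, false, false, false, false, true, false, false, false, false, false, false, false, false, false, false, true, false, false, false, false, false, false, false, false, false, false, false, false, false, false, false, false, false, false, false, false, true, true, true, true, true, true, true, true, true, false, false, true, true, true, false, false, true, false, true, true, true, true, true, true, true, true, true, true, false, false, true, true, true, false, false, true, false, true, true, true, true, true, true, true, true, true, true, false, false, true, true, true, false, false, true, false, true, true, true, true, true, true, true, true, true, true, false, false, true, true, true, false, false, true, false, true, true, true, true, true, true, true, true, true, true, false, false, true, true, true, false, false, true, false, true, false, false, true, false, true, false, true, false, false, false]]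

/-- The fusing elements as numbers. -/
def gk3 : List ℕ := [0x5a058a40064f905e8dd3740f032b763598c34e142c049d09e44a458854c0b9c2899756a7643ceb048d89a2630c2b6f71cca90e34d94f8ae0b51e4d7bb202406b3ef3282452bf1ed8b5c262a9508a39a44735419d0b2f15f]

/-- Their words. -/
def gw3 : List (List Bool) := [[false, false, false, false, false, false, false, false, false, false, false, false, false, false, false, false, false, false, false, false, true, true, true, false, false, false, false, false, false, false, false, false, false, true, false, false, false, false, false, false, false, false, false, false, true, false, false, false, false, false, false, false, false, false, false, false, false, false, false, false, false, false, false, false, false, true, false, false, false, false, false, false, false, false, false, false, true, true, true, true, true, false, false, false, false, false, false, false, false, false, false, false, false, false, false, false, false, false, false, false, false, true, false, true, true, true, true, false, false, true, false, true, false, true, false, false, false, false, true, false, true, true]]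

/-- Part of the list of normal forms. -/
def words3_0 : List (List ℕ) := [[], [1], [1, 1], [0], [0, 1], [0, 0], [0, 0, 1, 1], [0, 0, 1], [0, 1, 1]]

/-- The normal forms, sorted by their images of the chosen points. -/
def words3 : List (List ℕ) := words3_0

/-- The chosen points. -/
def pts3 : List ℕ := [0]

/-- The inner normal forms. -/
def words3in : List (List ℕ) := [[]]

/-- The points for these. -/
def pts3in : List ℕ := []

end CfsgLib.Schur.Sporadic.HS
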