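import Cfsg.Agent.Lib.Schur.TailsCert

/-!
Data for the 5-part of the multiplier of the Higman-Sims group.
-/

set_option autoImplicit false
set_option maxRecDepth 100000
set_option maxHeartbeats 0

namespace CfsgLib.Schur.Sporadic.HS

/-- An equation. -/
def eqs5_0 : CfsgLib.Schur.Tails.Form := [(-1, 3), (1, 1), (-1, 3), (-1, 3), (-1, 3), (-1, 3), (-1, 5), (-1, 5), (-1, 5), (-1, 5), (-1, 5), (-1, 5), (-1, 5), (-1, 5), (-1, 5), (-1, 5), (-1, 1), (-1, 2)]

/-- An equation. -/
def eqs5_1 : CfsgLib.Schur.Tails.Form := [(-1, 4), (1, 2), (-1, 4), (-1, 4), (-1, 4), (-1, 4), (-1, 2)]

/-- An equation. -/
def eqs5_2 : CfsgLib.Schur.Tails.Form := [(-1, 5), (1, 2), (-1, 5), (-1, 5), (-1, 5), (-1, 5), (-1, 2)]

/-- An equation. -/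
def eqs5_3 : CfsgLib.Schur.Tails.Form := [(1, 5), (1, 5), (1, 5), (1, 5), (1, 5), (1, 5), (1, 1), (1, 5), (1, 5), (1, 5), (1, 2), (1, 5), (1, 5), (1, 5), (1, 5), (1, 5), (1, 5), (1, 5), (1, 1), (1, 5), (1, 5), (1, 5), (1, 5), (1, 5), (1, 5), (1, 5), (1, 5), (1, 2), (1, 5), (1, 5), (1, 5), (1, 5), (1, 5), (1, 5), (1, 1), (1, 2), (1, 6), (1, 6), (1, 6), (1, 6), (1, 6), (-1, 0)]

/-- An equation. -/
def eqs5_4 : CfsgLib.Schur.Tails.Form := [(1, 4), (1, 4), (1, 4), (1, 4), (1, 4), (1, 4), (1, 2), (1, 4), (1, 4), (1, 4), (1, 4), (1, 0), (1, 2), (1, 7), (1, 7), (1, 7), (1, 7), (1, 7), (-1, 1)]

/-- An equation. -/
def eqs5_5 : CfsgLib.Schur.Tails.Form := [(1, 2), (1, 2), (1, 8), (1, 8), (1, 8), (1, 8), (1, 8), (-1, 2)]

/-- An equation. -/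
def eqs5_6 : CfsgLib.Schur.Tails.Form := [(1, 5), (1, 5), (1, 5), (1, 5), (1, 5), (1, 5), (1, 2), (-1, 4), (-1, 4), (-1, 4), (-1, 3), (-1, 3), (-1, 3), (-1, 5), (-1, 5), (-1, 5), (-1, 2), (-1, 2), (1, 7), (1, 6), (-1, 6), (-1, 7), (-1, 8), (-1, 3)]

/-- An equation. -/
def eqs5_7 : CfsgLib.Schur.Tails.Form := [(1, 5), (1, 5), (1, 5), (1, 5), (1, 5), (1, 5), (1, 2), (-1, 2), (1, 8), (1, 6), (-1, 6), (-1, 8), (-1, 4)]

/-- An equation. -/
def eqs5_8 : CfsgLib.Schur.Tails.Form := [(1, 4), (1, 4), (1, 8), (1, 7), (-1, 7), (-1, 8), (-1, 5)]

/-- A combination. -/
def tgt5_2 : ℕ × ℤ × List (ℤ × ℕ) := (2, 0, [(-11, 0), (-20, 7), (-10, 8)])

/-- A combination. -/
def tgt5_3 : ℕ × ℤ × List (ℤ × ℕ) := (3, 0, [])

/-- A combination. -/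
def tgt5_4 : ℕ × ℤ × List (ℤ × ℕ) := (4, 0, [(1, 7), (6, 8)])

/-- A combination. -/
def tgt5_5 : ℕ × ℤ × List (ℤ × ℕ) := (5, 0, [(2, 7), (1, 8)])

/-- The certificate. -/
def cert5 : CfsgLib.Schur.Tails.Cert :=
  { r := 3, a := 2, p := 5, fuel := 41, width := 3,
    rules := [([0, 0, 0, 0, 0], []), ([1, 1, 1, 1, 1], []), ([2, 2, 2, 2, 2], []), ([1, 0], [0, 1, 2]), ([2, 0], [0, 2]), ([2, 1], [1, 2])],
    ix := [[0, 0, 0], [3, 1, 0], [4, 5, 2]],
    ovl := [([1, 1, 1, 1], 3, []), ([2, 2, 2, 2], 4, []), ([2, 2, 2, 2], 5, [])],
    fus := [⟨[[0], [1], [2]], [[1, 1, 1, 2, 2, 2], [0, 2, 2], [2, 2]], [([0, 0, 0, 0, 0], []), ([1, 1, 1, 1, 1], []), ([2, 2, 2, 2, 2], []), ([1, 0], [0, 1, 2]), ([2, 0], [0, 2]), ([2, 1], [1, 2])]⟩],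
    eqs := [eqs5_0, eqs5_1, eqs5_2, eqs5_3, eqs5_4, eqs5_5, eqs5_6, eqs5_7, eqs5_8],
    lam := [[], [], [(-1, 3)]],
    gen := [], b := 1, m := 11,
    genC := [],
    targets := [tgt5_2, tgt5_3, tgt5_4, tgt5_5] }

/-- The generators as numbers. -/
def kk5 : List ℕ := [0xb8e97c4b31a6b9c6e12e04716aa4509d331615b14a76f63860e5870ac27c48da73de3364d9a4b6f75adb9969f85273a012195ec50be3e91d06a9619434445e1678a542e055c82109f4334b804192a4a9836808ad4408e04, 0xb386ed8c75f05b9d6a862a372a5ebf5aad39f49e4d5aa57c892a98bd8eb183b5cae5102a2d40610e92420ef893815142b91a68db44a5cf811e993891cd632388088963088cb298fe0136e84a0c670e59c6c110413c74180, 0x50a4dbd725a250a721a4a4564b98598d342b57c52f404dd006c052bc0eb981542c884333618860582abfc250fb8169c4c57c0e612b83edd4548eb2d9d452469a7a0086e7088d9239dc735495cfc4cc29dba125c1aed6f0c]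

/-- Their words. -/
def kw5 : List (List Bool) := [[false, false, true, false, true, true, false, false, true, false, false, false, false, false, true, true, true, false, true, true, false, false, true, false, true, true, false, false, true, false, false, false, false, false, true, true, true, false, true, true, false, false, true, false, true, true, false, false, true, false, false, false, false, false, true, true, true, false, true, true, false, false, true, false, true, true, false, false, true, false, false, false, false, false, true, true, true, false, true, true, false, false, true, false, true, true, false, false, true, false, false, false, false, false, true, true, true, false, true, true, false, false, true, false, true, true, false, false, true, false, false, false, false, false, true, true, true, false, true, true, false, false, false, false, false, false, false, false, false, false, false, false, false, false, false, false, false, false, false, false, false, false, false, false, false, false, false, false, false, false, false, false, false, false, false, false, false, false, false, false, false, false, false, false, false, false, false, false, false, false, false, false, false, false, false, false, false, false, false, false, false, false, false, false, false, false, false, false, false, false, true, false, false, false, false, false, false, false, false, false, false, false, false, false, false, false, false, false,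 false, false, false, true, false, false, false, false, false, false, false, false, false, false, false, false, true, false, true, true, false, false, true, false, false, false, false, false, true, true, true, false, true, true, false, false, true, false, true, true, false, false, true, false, false, false, false, false, true, true, true, false, true, true, false, false, true, false, true, true, false, false, true, false, false, false, false, false, true, true, true, false, true, true, false, true, false, false, true, false, false, false, false, false, false, false, false, false, false, false, false, false, false, false, false, false, false, false, false, false, false, false, false, false, false, false, false, false, false, false, false, false, false, false, false, false, false, false, false, false, false, false, false, false, false, false, false, false, false, false, false, false, false, false, false, false, false, false, false, false, false, false, false, false, false, false, false, false, false, false, false, false, false, false, false, false, true, false, false, false, false, false, false, false, false, false, false, false, false, false, false, false, false, false, false, false, false, true, false, false, false, false, false, false, false, false, false, false, false, false, true, false, true, true, false, false, true, false, false, false, false, false, true, true, true, false, true, true, false, false, true, false, true,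 true, false, false, true, false, false, false, false, false, true, true, true, false, true, true, false, false, true, false, true, true, false, false, true, false, false, false, false, false, true, true, true, false, true, true, false, true, false, false, true, false, false, false, false, false, false, false, false, false, false, false, false, false, false, false, false, false, false, false, false, false, false, false, false, false, false, false, false, false, false, false, false, false, false, false, false, false, false, false, false, false, false, false, false, false, false, false, false, false, false, false, false, false, false, false, false, false, false, false, false, false, false, false, false, false, false, false, false, false, false, false, false, false, false, false, false, false, true, false, false, false, false, false, false, false, false, false, false, false, false, false, false, false, false, false, false, false, false, true, false, false, false, false, false, false, false, false, false, false, false, false, true, false, true, true, false, false, true, false, false, false, false, false, true, true, true, false, true, true, false, false, true, false, true, true, false, false, true, false, false, false, false, false, true, true, true, false, true, true, false, false, true, false, true, true, false, false, true, false, false, false, false, false, true, true, true, false, true, true, false, true, false, false, true,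 false, false, false, false, false, false, false, false, false, false, false, false, false, false, false, false, false, false, false, false, false, false, false, false, false, false, false, false, false, false, false, false, false, false, false, false, false, false, false, false, false, false, false, false, false, false, false, false, false, false, false, false, false, false, false, false, false, false, false, false, false, false, false, false, false, false, false, false, false, false, false, false, false, false, false, false, false, true, false, false, false, false, false, false, false, false, false, false, false, false, false, false, false, false, false, false, false, false, true, false, false, false, false, false, false, false, false, false, false, false, false, true, false, true, true, false, false, true, false, false, false, false, false, true, true, true, false, true, true, false, false, true, false, true, true, false, false, true, false, false, false, false, false, true, true, true, false, true, true, false, false, true, false, true, true, false, false, true, false, false, false, false, false, true, true, true, false, true, true, false, true, false, false, true, false, false, false, false, false, false, false, false, false, true, false, true, true, false, false, true, false, false, false, false, false, true, true, true, false, true, true, false, false, true, false, true, true, false, false, true, false, false, false, false,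 false, true, true, true, false, true, true, false, false, true, false, true, true, false, false, true, false, false, false, false, false, true, true, true, false, true, true], [false, false, false, false, false, false, false, false, false, false, false, false, false, false, false, false, false, false, false, false, false, false, false, false, false, false, false, false, false, false, false, false, false, false, false, false, false, false, false, false, false, false, false, false, false, false, false, false, false, false, false, false, false, false, false, false, false, false, false, false, false, false, false, false, false, false, false, false, false, false, true, false, false, false, false, false, false, false, false, false, false, false, false, false, false, false, false, false, false, false, false, true, false, false, false, false, false, false, false, false, false, false, false, false, true, false, true, true, false, false, true, false, false, false, false, false, true, true, true, false, true, true, false, false, true, false, true, true, false, false, true, false, false, false, false, false, true, true, true, false, true, true, false, false, true, false, true, true, false, false, true, false, false, false, false, false, true, true, true, false, true, true, false, true, false, false, true, false, false, false, false, false, false, false, false, false, true, false, true, true, false, false, true, false, false, false, false,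 false, true, true, true, false, true, true, false, false, true, false, true, true, false, false, true, false, false, false, false, false, true, true, true, false, true, true, false, false, true, false, true, true, false, false, true, false, false, false, false, false, true, true, true, false, true, true, false, false, false, false, false, false, false, false, false, false, false, false, false, false, false, false, false, false, false, false, false, false, false, false, false, false, false, false, false, false, false, false, false, false, false, false, false, false, false, false, false, false, false, false, false, false, false, false, false, false, false, false, false, false, false, false, false, false, false, false, false, false, false, false, false, false, false, false, false, false, true, false, false, false, false, false, false, false, false, false, false, false, false, false, false, false, false, false, false, false, false, true, false, false, false, false, false, false, false, false, false, false, false, false, true, false, true, true, false, false, true, false, false, false, false, false, true, true, true, false, true, true, false, false, true, false, true, true, false, false, true, false, false, false, false, false, true, true, true, false, true, true, false, false, true, false, true, true, false, false, true, false, false, false, false, false, true, true, true, false, true, true, false, true, false, false, true, false,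 false, false, false, false, false, false, false, false, false, false, false, false, false, false, false, false, false, false, false, false, false, false, false, false, false, false, false, false, false, false, false, false, false, false, false, false, false, false, false, false, false, false, false, false, false, false, false, false, false, false, false, false, false, false, false, false, false, false, false, false, false, false, false, false, false, false, false, false, false, false, false, false, false, false, false, false, true, false, false, false, false, false, false, false, false, false, false, false, false, false, false, false, false, false, false, false, false, true, false, false, false, false, false, false, false, false, false, false, false, false, true, false, true, true, false, false, true, false, false, false, false, false, true, true, true, false, true, true, false, false, true, false, true, true, false, false, true, false, false, false, false, false, true, true, true, false, true, true, false, false, true, false, true, true, false, false, true, false, false, false, false, false, true, true, true, false, true, true, false, true, false, false, true, false, false, false, false, false, false, false, false, false, false, false, false, false, false, false, false, false, false, false, false, false, false, false, false, false, false, false, false, false, false, false, false, false, false, false, false, false, false, false,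 false, false, false, false, false, false, false, false, false, false, false, false, false, false, false, false, false, false, false, false, false, false, false, false, false, false, false, false, false, false, false, false, false, false, false, false, false, false, true, false, false, false, false, false, false, false, false, false, false, false, false, false, false, false, false, false, false, false, false, true, false, false, false, false, false, false, false, false, false, false, false, false, true, false, true, true, false, false, true, false, false, false, false, false, true, true, true, false, true, true, false, false, true, false, true, true, false, false, true, false, false, false, false, false, true, true, true, false, true, true, false, false, true, false, true, true, false, false, true, false, false, false, false, false, true, true, true, false, true, true, false, true, false, false, true, false, false, false, false, false, false, false], [false, false, true, false, true, true, false, false, true, false, false, false, false, false, true, true, true, false, true, true, false, false, true, false, true, true, false, false, true, false, false, false, false, false, true, true, true, false, true, true, false, false, true, false, true, true, false, false, true, false, false, false, false, false, true, true, true, false, true, true, false, false, true, false, true, true, false, false, true, false, false, false, false, false,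 true, true, true, false, true, true, false, false, true, false, true, true, false, false, true, false, false, false, false, false, true, true, true, false, true, true, false, false, true, false, true, true, false, false, true, false, false, false, false, false, true, true, true, false, true, true, false, false, true, false, true, true, false, false, true, false, false, false, false, false, true, true, true, false, true, true, false, false, true, false, true, true, false, false, true, false, false, false, false, false, true, true, true, false, true, true, false, false, true, false, true, true, false, false, true, false, false, false, false, false, true, true, true, false, true, true, false, false, true, false, true, true, false, false, true, false, false, false, false, false, true, true, true, false, true, true, false, false, true, false, true, true, false, false, true, false, false, false, false, false, true, true, true, false, true, true, false, false, true, false, true, true, false, false, true, false, false, false, false, false, true, true, true, false, true, true, false, false, false, false, false, false, false, false, false, false, false, false, false, false, false, false, false, false, false, false, false, false, false, false, false, false, false, false, false, false, false, false, false, false, false, false, false, false, false, false, false, false, false, false, false, false, false, false, false, false, false, false,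 false, false, false, false, false, false, false, false, false, false, false, false, false, false, false, false, false, false, true, false, false, false, false, false, false, false, false, false, false, false, false, false, false, false, false, false, false, false, false, true, false, false, false, false, false, false, false, false, false, false, false, false, true, false, true, true, false, false, true, false, false, false, false, false, true, true, true, false, true, true, false, false, true, false, true, true, false, false, true, false, false, false, false, false, true, true, true, false, true, true, false, false, true, false, true, true, false, false, true, false, false, false, false, false, true, true, true, false, true, true, false, true, false, false, true, false, false, false, false, false, false, false, false, false, false, false, false, false, false, false, false, false, false, false, false, false, false, false, false, false, false, false, false, false, false, false, false, false, false, false, false, false, false, false, false, false, false, false, false, false, false, false, false, false, false, false, false, false, false, false, false, false, false, false, false, false, false, false, false, false, false, false, false, false, false, false, false, false, false, false, false, false, true, false, false, false, false, false, false, false, false, false, false, false, false, false, false, false, false, false, false, false,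 false, true, false, false, false, false, false, false, false, false, false, false, false, false, true, false, true, true, false, false, true, false, false, false, false, false, true, true, true, false, true, true, false, false, true, false, true, true, false, false, true, false, false, false, false, false, true, true, true, false, true, true, false, false, true, false, true, true, false, false, true, false, false, false, false, false, true, true, true, false, true, true, false, true, false, false, true, false, false, false, false, false, false, false, false, false, false, false, false, false, false, false, false, false, false, false, false, false, false, false, false, false, false, false, false, false, false, false, false, false, false, false, false, false, false, false, false, false, false, false, false, false, false, false, false, false, false, false, false, false, false, false, false, false, false, false, false, false, false, false, false, false, false, false, false, false, false, false, false, false, false, false, false, false, true, false, false, false, false, false, false, false, false, false, false, false, false, false, false, false, false, false, false, false, false, true, false, false, false, false, false, false, false, false, false, false, false, false, true, false, true, true, false, false, true, false, false, false, false, false, true, true, true, false, true, true, false, false, true, false, true, true, false, false,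 true, false, false, false, false, false, true, true, true, false, true, true, false, false, true, false, true, true, false, false, true, false, false, false, false, false, true, true, true, false, true, true, false, true, false, false, true, false, false, false, false, false, false, false, false, false, true, false, true, true, false, false, true, false, false, false, false, false, true, true, true, false, true, true, false, false, true, false, true, true, false, false, true, false, false, false, false, false, true, true, true, false, true, true, false, false, true, false, true, true, false, false, true, false, false, false, false, false, true, true, true, false, true, true, false, false, false, false, false, false, false, false, false, false, false, false, false, false, false, false, false, false, false, false, false, false, false, false, false, false, false, false, false, false, false, false, false, false, false, false, false, false, false, false, false, false, false, false, false, false, false, false, false, false, false, false, false, false, false, false, false, false, false, false, false, false, false, false, false, false, false, false, false, false, true, false, false, false, false, false, false, false, false, false, false, false, false, false, false, false, false, false, false, false, false, true, false, false, false, false, false, false, false, false, false, false, false, false, true, false, true, true, false, false,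 true, false, false, false, false, false, true, true, true, false, true, true, false, false, true, false, true, true, false, false, true, false, false, false, false, false, true, true, true, false, true, true, false, false, true, false, true, true, false, false, true, false, false, false, false, false, true, true, true, false, true, true, false, true, false, false, true, false, false, false, false, false, false, false, false, false, false, false, false, false, false, false, false, false, false, false, false, false, false, false, false, false, false, false, false, false, false, false, false, false, false, false, false, false, false, false, false, false, false, false, false, false, false, false, false, false, false, false, false, false, false, false, false, false, false, false, false, false, false, false, false, false, false, false, false, false, false, false, false, false, false, false, false, false, true, false, false, false, false, false, false, false, false, false, false, false, false, false, false, false, false, false, false, false, false, true, false, false, false, false, false, false, false, false, false, false, false, false, true, false, true, true, false, false, true, false, false, false, false, false, true, true, true, false, true, true, false, false, true, false, true, true, false, false, true, false, false, false, false, false, true, true, true, false, true, true, false, false, true, false, true, true, false, false,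 true, false, false, false, false, false, true, true, true, false, true, true, false, true, false, false, true, false, false, false, false, false, false, false]]

/-- The fusing elements as numbers. -/
def gk5 : List ℕ := [0xb16c93116e13c39a708565b80a0c67248ddbd3142554d2c813e18550b8f0bd47a3e72e30fd4d5657df36c679782a61d19ba22561388670c840163d7c5027b0a4eceda561042642e92392b28d468a3818084dd1359636096]

/-- Their words. -/
def gw5 : List (List Bool) := [[false, false, false, false, false, false, false, false, false, false, false, false, false, false, false, false, false, false, false, false, false, false, false, false, false, false, false, false, false, false, true, false, false, false, false, false, false, false, false, false, false, false, false, false, false, false, false, false, false, false, false, false, false, false, false, false, false, false, false, false, false, false, false, false, false, false, false, false, false, false, false, true, true, true, true, true, true, true, true, true, false, true, false, false, false, true, true, false, true, false, false]]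

/-- Part of the list of normal forms. -/
def words5_0 : List (List ℕ) := [[], [0, 0, 0, 2], [0, 0, 2, 2, 2, 2], [0, 2, 2], [0, 0, 0, 0, 2, 2, 2], [0, 1, 1, 1, 2, 2, 2, 2], [0, 0, 0, 0, 1, 1, 1, 2, 2, 2, 2], [0, 0, 0, 1, 1, 1, 2, 2, 2, 2], [0, 0, 1, 1, 1, 2, 2, 2, 2], [1, 1, 1, 2, 2, 2, 2], [1], [0, 0, 1, 2], [0, 0, 0, 1, 2, 2, 2, 2], [0, 1, 2, 2, 2], [0, 0, 0, 0, 1, 2, 2], [0, 1, 1, 1, 1, 2, 2, 2, 2], [0, 0, 0, 1, 1, 1, 1, 2], [0, 0, 1, 1, 1, 1], [0, 0, 0, 0, 1, 1, 1, 1, 2, 2], [1, 1, 1, 1, 2, 2, 2], [0, 0, 1, 1, 2], [0, 0, 0, 0, 1, 1, 2, 2, 2, 2], [0, 1, 1, 2, 2], [0, 0, 0, 1, 1], [1, 1, 2, 2, 2], [0, 2, 2, 2, 2], [0, 0, 2], [0, 0, 0, 0], [0, 0, 0, 2, 2, 2], [2, 2], [0, 0, 1, 1, 1, 2, 2], [0, 0, 0, 1, 1, 1, 2, 2], [0, 1, 1, 1, 2, 2], [0, 0, 0, 0, 1, 1, 1, 2, 2], [1, 1, 1, 2, 2], [0, 0, 1, 1, 1, 1, 2, 2, 2, 2], [0, 0, 0, 0, 1, 1, 1, 1, 2], [0, 1, 1, 1, 1, 2, 2, 2], [0, 0, 0, 1, 1, 1, 1], [1, 1, 1, 1, 2, 2], [0, 0, 1, 1, 2, 2], [0, 0, 0, 0, 1, 1], [0, 0, 0, 1, 1, 2], [0, 1, 1, 2, 2, 2], [1, 1, 2, 2, 2, 2], [0], [0, 0, 2, 2], [0, 0, 0, 2, 2, 2, 2], [0, 0, 0, 0, 2], [2, 2, 2], [0, 1, 1, 1, 1], [0, 0, 1, 1, 1, 1, 2], [0, 0, 0, 1, 1, 1, 1, 2, 2], [0, 0, 0, 0, 1, 1, 1, 1, 2, 2, 2], [1, 1, 1, 1, 2, 2, 2, 2], [1, 1], [0, 1, 1, 2, 2, 2, 2], [0, 0, 0, 1, 1, 2, 2], [0, 0, 0, 0, 1, 1, 2], [0, 0, 1, 1, 2, 2, 2], [0, 1], [0, 0, 0, 0, 1, 2, 2, 2, 2], [0, 0, 0, 1, 2], [0, 0, 1, 2, 2, 2], [1, 2, 2], [0, 0, 0, 0, 1], [0, 0, 0, 1, 2, 2], [0,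 0, 1, 2, 2, 2, 2], [0, 1, 2], [1, 2, 2, 2], [1, 1, 1, 1], [0, 0, 1, 1, 1, 1, 2, 2], [0, 0, 0, 0, 1, 1, 1, 1, 2, 2, 2, 2], [0, 0, 0, 1, 1, 1, 1, 2, 2, 2], [0, 1, 1, 1, 1, 2], [0, 0, 0, 1, 1, 2, 2, 2, 2], [0, 0, 1, 1], [0, 0, 0, 0, 1, 1, 2, 2, 2], [0, 1, 1, 2], [1, 1, 2, 2], [0, 0, 0, 0, 1, 2], [0, 0, 1], [0, 1, 2, 2], [0, 0, 0, 1, 2, 2, 2], [1, 2, 2, 2, 2], [1, 1, 1], [0, 1, 1, 1], [0, 0, 0, 0, 1, 1, 1], [0, 0, 1, 1, 1], [0, 0, 0, 1, 1, 1], [0, 0, 0, 0, 1, 1, 1, 2, 2, 2], [0, 1, 1, 1, 2, 2, 2], [0, 0, 0, 1, 1, 1, 2, 2, 2], [0, 0, 1, 1, 1, 2, 2, 2], [1, 1, 1, 2, 2, 2], [0, 0, 0, 0, 2, 2], [0, 0, 0], [0, 2], [2, 2, 2, 2], [0, 0, 2, 2, 2], [0, 1, 1], [1, 1, 2], [0, 0, 1, 1, 2, 2, 2, 2], [0, 0, 0, 1, 1, 2, 2, 2], [0, 0, 0, 0, 1, 1, 2, 2], [1, 1, 1, 1, 2], [0, 0, 0, 0, 1, 1, 1, 1], [0, 0, 0, 1, 1, 1, 1, 2, 2, 2, 2], [0, 1, 1, 1, 1, 2, 2], [0, 0, 1, 1, 1, 1, 2, 2, 2], [0, 0, 1, 1, 1, 2], [1, 1, 1, 2], [0, 0, 0, 1, 1, 1, 2], [0, 0, 0, 0, 1, 1, 1, 2], [0, 1, 1, 1, 2], [0, 0, 1, 2, 2], [0, 1, 2, 2, 2, 2], [1, 2], [0, 0, 0, 0, 1, 2, 2, 2], [0, 0, 0, 1], [2], [0, 0, 0, 2, 2], [0, 0, 0, 0, 2, 2, 2, 2], [0, 0], [0, 2, 2, 2]]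

/-- The normal forms, sorted by their images of the chosen points. -/
def words5 : List (List ℕ) := words5_0

/-- The chosen points. -/
def pts5 : List ℕ := [0, 1]

/-- The inner normal forms. -/
def words5in : List (List ℕ) := [[], [2], [2, 2, 2, 2], [2, 2], [2, 2, 2]]

/-- The points for these. -/
def pts5in : List ℕ := [0]

end CfsgLib.Schur.Sporadic.HS
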