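import Mathlib

/-!
An involution without fixed points in the Higman-Sims group on 100 points.
-/

set_option autoImplicit false
set_option maxRecDepth 100000

namespace CfsgLib.Schur.Sporadic.HS

/-- Its word. -/
def spinW : List Bool := [true, false, false, false, false, false, false, true, false, false, false, false, false, false, false, false, true, false, false, false, false, false, false, false, false, false, false, true, false, false, false, false, false, false, false, false, false, true, false, false, false, false, true, false, true, false, false, false, true, false, false, false, false, false, false, true, false, false, false, false, false, false, false, false, true, false, false, false, false, false, false, false, false, false, false, true, false, false, false, false, false, false, false, false, false, true, false, false, false, false, true, false, true, false, false, false, false, false, false, false, false, true, false, false, false, false, false, false, false, true, false, false, false, true, false, false, false, false, false, false, false, true, false, false, false, false, false, false, false, false, true, false, false, false, true, false, false, false, false, false, false, false, false, false, true, false, false, false, false, false, false, false, true, false, false, false, false, false, false, true, false, false, false, false, false, false, false, false, true, false, false, false, false, false, false, false, false, false, false, true, false, false, false, false, false, false, false,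 false, false, true, false, false, false, false, true, false, true, false, false, false]

/-- Its transpositions. -/
def spinSwaps : List (Fin 100 × Fin 100) := [(0, 87), (1, 59), (2, 75), (3, 97), (4, 30), (5, 49), (6, 15), (7, 55), (8, 12), (9, 91), (10, 85), (11, 94), (13, 36), (14, 20), (16, 92), (17, 42), (18, 77), (19, 63), (21, 70), (22, 32), (23, 43), (24, 61), (25, 82), (26, 48), (27, 99), (28, 71), (29, 41), (31, 90), (33, 65), (34, 79), (35, 60), (37, 72), (38, 73), (39, 93), (40, 98), (44, 51), (45, 53), (46, 50), (47, 57), (52, 88), (54, 83), (56, 89), (58, 81), (62, 84), (64, 66), (67, 95), (68, 80), (69, 96), (74, 86), (76, 78)]

end CfsgLib.Schur.Sporadic.HS
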