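import Cfsg.Agent.Lib.Schur.HS.Check
import Cfsg.Agent.Lib.Schur.HS.Check3
import Cfsg.Agent.Lib.Schur.HS.Check5
import Cfsg.Agent.Lib.Schur.HS.DataSpin
import Cfsg.Agent.Lib.Schur.SpinLift
import Cfsg.Agent.Lib.Schur.TailsCombine
import Cfsg.Agent.Lib.Sporadic.OutCert.HS.Group
import Mathlib.GroupTheory.SpecificGroups.Cyclic

/-!
The multiplier of the Higman-Sims group has order two.
-/

set_option autoImplicit false
set_option maxRecDepth 100000

namespace CfsgLib.Schur.Sporadic.HS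

open CfsgLib.Sporadic.OutCert

attribute [local irreducible] lk pkF allF compK wordK HS.wk

/-- The element of the group given by a word. -/
noncomputable def el (l : List Bool) : HS.H := ⟨HS.wp l, HS.wp_mem l⟩

theorem rep_list {kk : List ℕ} {kw : List (List Bool)} (h : kw.map HS.wk = kk) (i : ℕ) :
    Rep 7 100 (kk.getD i (oneK 7 100)) ((HS.H).subtype (el (kw.getD i []))) := by
  subst h
  by_cases hi : i < kw.length
  · rw [List.getD_eq_getElem _ _ (by simpa using hi), List.getD_eq_getElem _ _ hi, List.getElem_map]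
    exact HS.rep_wp _
  · rw [List.getD_eq_default _ _ (by simpa using hi), List.getD_eq_default _ _ (by omega)]
    exact rep_one HS.hw

theorem bound_at (D : Tails.Cert) {kk gk pts ptsin : List ℕ} {kw gw : List (List Bool)}
    {ws wsin : List (List ℕ)} (he : D.eqsOK = true) (hc : D.combOK = true) (hs : D.shapeOK = true)
    (hw : kw.map HS.wk = kk ∧ gw.map HS.wk = gk)
    (hr : Tails.relK 7 100 kk D = true ∧ Tails.fusK 7 100 kk gk D = true)
    {p : ℕ} [Fact p.Prime] (hDp : D.p = p) (hm : ¬ p ∣ D.m) {e eb : ℕ}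
    (ha : Tails.wordsOK 7 100 kk pts ws 0 D.r = true ∧ ws.length = e) (heq : e = p ^ D.r)
    (hi : Tails.wordsOK 7 100 kk ptsin wsin D.a D.r = true ∧ wsin.length = eb) (hebq : eb = p ^ (D.r - D.a))
    (hQ : ¬ p ^ (D.r + 1) ∣ 44352000) (Γ : Type) [Group Γ] [Finite Γ] (σ : Γ →* HS.H)
    (hσ : Cfsg.IsStemExtension σ) : (Nat.card σ.ker).factorization p ≤ D.b.factorization p := by
  have hy := rep_list hw.1
  have hinj : Function.Injective (HS.H).subtype := Subtype.coe_injective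
  refine Tails.factorization_card_ker_le D he hc hs hDp hm (fun i => el (kw.getD i []))
    (Tails.rel_of_check (HS.H).subtype hinj HS.hw hy hr.1) (fun j => el (gw.getD j []))
    (Tails.fus_of_check (HS.H).subtype hinj HS.hw hy (rep_list hw.2) hr.2) ?_ ?_ ?_ Γ σ hσ
  · rw [← heq, ← ha.2]; exact Tails.card_tailGen_ge (HS.H).subtype hy ha.1
  · rw [← hebq, ← hi.2]; exact Tails.card_tailGen_ge (HS.H).subtype hy hi.1
  · rwa [HS.H_spec.2.1]

theorem m_ok : ¬ 2 ∣ cert2.m ∧ ¬ 3 ∣ cert3.m ∧ ¬ 5 ∣ cert5.m ∧ cert2.b = 2 ∧ cert3.b = 1 ∧ cert5.b = 1 := by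
  decide +kernel

theorem card_ker_le (Γ : Type) [Group Γ] [Finite Γ] (σ : Γ →* HS.H) (hσ : Cfsg.IsStemExtension σ) :
    Nat.card σ.ker ≤ 2 := by
  obtain ⟨m2, m3, m5, b2, b3, b5⟩ := m_ok
  refine Tails.card_ker_le σ hσ two_ne_zero fun p hp hd => ?_
  rw [HS.H_spec.2.1] at hd
  have hp' : p = 2 ∨ p = 3 ∨ p = 5 ∨ p = 7 ∨ p = 11 := by
    have h1 : p ∣ 2 ^ 9 * 3 ^ 2 * 5 ^ 3 * 7 * 11 := hd
    have q : ∀ r : ℕ, r.Prime → p ∣ r → p = r := fun r hr h => (Nat.prime_dvd_prime_iff_eq hp hr).1 h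
    simp only [Nat.Prime.dvd_mul hp] at h1
    rcases h1 with (((h1 | h1) | h1) | h1) | h1
    · exact Or.inl (q 2 Nat.prime_two (hp.dvd_of_dvd_pow h1))
    · exact Or.inr (Or.inl (q 3 Nat.prime_three (hp.dvd_of_dvd_pow h1)))
    · exact Or.inr (Or.inr (Or.inl (q 5 Nat.prime_five (hp.dvd_of_dvd_pow h1))))
    · exact Or.inr (Or.inr (Or.inr (Or.inl (q 7 (by norm_num) h1))))
    · exact Or.inr (Or.inr (Or.inr (Or.inr (q 11 (by norm_num) h1))))
  haveI := Fact.mk hp
  obtain ⟨-, -, -, e4, e5, -, -, -, -, e10, e11⟩ := HS.elems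
  rcases hp' with rfl | rfl | rfl | rfl | rfl
  · exact (bound_at (p := 2) cert2 cert_eqs cert_comb cert_shape kw_ok rels_ok rfl m2 all_ok rfl inner_ok rfl
      (by decide +kernel) Γ σ hσ).trans (le_of_eq (by rw [b2]))
  · refine (bound_at (p := 3) cert3 cert3_eqs cert3_comb cert3_shape kw3_ok rels3_ok rfl m3 all3_ok rfl inner3_ok rfl
      (by decide +kernel) Γ σ hσ).trans ?_
    rw [b3, Nat.factorization_one]; exact Nat.zero_le _
  · refine (bound_at (p := 5) cert5 cert5_eqs cert5_comb cert5_shape kw5_ok rels5_ok rfl m5 all5_ok rfl inner5_ok rfl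
      (by decide +kernel) Γ σ hσ).trans ?_
    rw [b5, Nat.factorization_one]; exact Nat.zero_le _
  · rw [Tails.factorization_card_ker_of_orderOf σ hσ (el HS.w7) (k := 1) ?_ (by rw [HS.H_spec.2.1]; norm_num)]
    · exact Nat.zero_le _
    · rw [← orderOf_injective (HS.H).subtype Subtype.coe_injective, pow_one]
      exact HS.orderOf_wp e4 e5
  · rw [Tails.factorization_card_ker_of_orderOf σ hσ (⟨HS.pA, HS.A_mem⟩ : HS.H) (k := 1) ?_
      (by rw [HS.H_spec.2.1]; norm_num)]
    · exact Nat.zero_le _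
    · rw [← orderOf_injective (HS.H).subtype Subtype.coe_injective, pow_one]
      exact HS.orderOf_A

theorem spin_ok : (spinSwaps.flatMap fun s => [s.1, s.2]).Nodup ∧ spinSwaps.length % 4 = 2 ∧
    ∀ i : Fin 100, ((SpinLift.swapProd spinSwaps i : Fin 100) : ℕ) = lk 7 (HS.wk spinW) i := by
  decide +kernel

theorem hasMultiplier : Cfsg.HasCyclicSchurMultiplier HS.H 2 := by
  obtain ⟨⟨e⟩, hcard, hH⟩ := HS.H_spec
  haveI : IsSimpleGroup HS.H := by
    have := HS.isSimple_HS
    exact SmallGroups.MathieuSimple.isSimpleGroup_congr' e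
  have hperf : Group.IsPerfect HS.H := by
    refine ⟨((commutator HS.H).normal_of_characteristic.eq_bot_or_eq_top).resolve_left fun h => ?_⟩
    have hcomm : ∀ a b : HS.H, a * b = b * a := fun a b => commutatorElement_eq_one_iff_mul_comm.1
      (Subgroup.mem_bot.1 (h ▸ Subgroup.commutator_mem_commutator (Subgroup.mem_top a) (Subgroup.mem_top b)))
    letI : CommGroup HS.H := { (inferInstance : Group HS.H) with mul_comm := hcomm }
    have := IsSimpleGroup.prime_card (α := HS.H)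
    rw [hcard] at this
    norm_num at this
  obtain ⟨hnd, h4, hsw⟩ := spin_ok
  have hmem : SpinLift.swapProd spinSwaps ∈ HS.H := by
    have : SpinLift.swapProd spinSwaps = HS.wp spinW :=
      Equiv.ext fun i => Fin.ext ((hsw i).trans (HS.rep_wp spinW i))
    rw [this]; exact HS.wp_mem _
  obtain ⟨Γ, _, _, σ, hσ, hk⟩ := SpinLift.exists_double_cover hperf HS.H_le_sign spinSwaps hnd h4 hmem
  haveI : Fact (Nat.Prime 2) := ⟨Nat.prime_two⟩
  exact Basic.hasSchurMultiplier_of_le σ hσ (mulEquivOfPrimeCardEq (p := 2) hk (by simp [Nat.card_eq_fintype_card]))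
    fun Δ _ _ τ hτ => (card_ker_le Δ τ hτ).trans (le_of_eq (by simp [Nat.card_eq_fintype_card]))

end CfsgLib.Schur.Sporadic.HS
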